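import Cfsg.Agent.Lib.Lead.J2.I4

set_option autoImplicit false
set_option linter.unusedSimpArgs false
set_option linter.unnecessarySeqFocus false
set_option linter.unreachableTactic false
set_option linter.unusedTactic false
set_option linter.unusedVariables false
set_option linter.constructorNameAsVariable false

/-!
# The reflection group is generated by four reflections, and all reflections are conjugate
-/

namespace Cfsg.Agent.Lib.Lead.J2

open Quaternion

/-- the reflection in `w` is conjugate to the reflection in `w0` under `H` -/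
def ConjToH (H : Subgroup (Equiv.Perm Spor.icoLeech)) (w : V3) : Prop :=
  ∃ g ∈ H, g * reflF w0 * g⁻¹ = reflF w

theorem ConjToH_step {H : Subgroup (Equiv.Perm Spor.icoLeech)} {s w : V3} (hs : s ∈ Mset)
    (hsH : reflF s ∈ H) (hw : w ∈ Mset) (h : ConjToH H w) : ConjToH H (nrm (qreflm s w)) := by
  obtain ⟨g, hg, hgw⟩ := h
  refine ⟨reflF s * g, Subgroup.mul_mem _ hsH hg, ?_⟩
  rw [reflF_nrm (qreflm_mem_Mset hs hw), ← reflF_conj hs hw, ← hgw]
  group

/-- the order conditions of a certificate of connectedness with reflectors from a list -/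
def orderOK (gens : List ℕ) : List (ℕ × ℕ × ℕ) → List ℕ → Bool
  | [], _ => true
  | e :: rest, reached => decide (e.2.1 ∈ reached) && decide (e.2.2 ∈ gens) &&
      decide (e.2.2 < 315) && decide (e.1 < 315) && orderOK gens rest (e.1 :: reached)

theorem cert_sound (H : Subgroup (Equiv.Perm Spor.icoLeech)) (gens : List ℕ)
    (hH : ∀ s ∈ gens, reflF (Wi s) ∈ H) :
    ∀ (cert : List (ℕ × ℕ × ℕ)) (reached : List ℕ), orderOK gens cert reached = true →
    (∀ e ∈ cert, stepOK e) →
    (∀ i ∈ reached, i < 315 ∧ ConjToH H (Wi i)) → ∀ e ∈ cert, ConjToH H (Wi e.1) := by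
  intro cert
  induction cert with
  | nil => intro _ _ _ _ e he; cases he
  | cons a rest ih =>
    intro reached h hstep hr e he
    rw [orderOK, Bool.and_eq_true, Bool.and_eq_true, Bool.and_eq_true, Bool.and_eq_true,
      decide_eq_true_eq, decide_eq_true_eq, decide_eq_true_eq, decide_eq_true_eq] at h
    obtain ⟨⟨⟨⟨h1, h1'⟩, h2⟩, h3⟩, h5⟩ := h
    have h4 : stepOK a := hstep a List.mem_cons_self
    have ha : ConjToH H (Wi a.1) := by
      obtain ⟨hp, hpc⟩ := hr _ h1
      have := ConjToH_step (WlX_sub_Mset (Wi_mem h2)) (hH _ h1') (WlX_sub_Mset (Wi_mem hp)) hpc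
      rwa [h4] at this
    rcases List.mem_cons.1 he with rfl | he'
    · exact ha
    · refine ih (a.1 :: reached) h5 (fun e he => hstep e (List.mem_cons_of_mem _ he)) ?_ e he'
      intro i hi
      rcases List.mem_cons.1 hi with rfl | hi'
      · exact ⟨h3, ha⟩
      · exact hr i hi'

/-- the indices of the four generating reflections -/
def genIdx : Fin 4 → ℕ := ![0, 27, 100, 200]

/-- the four generating reflections -/
noncomputable def genF (k : Fin 4) : Equiv.Perm Spor.icoLeech := reflF (Wi (genIdx k))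

set_option maxRecDepth 1000000 in
set_option maxHeartbeats 0 in
theorem certG_order : orderOK [0, 27, 100, 200] certG [0] = true := by decide +kernel

set_option maxRecDepth 1000000 in
set_option maxHeartbeats 0 in
theorem certG_all : ∀ i ∈ List.range 315, i = 0 ∨ i ∈ certG.map (fun e => e.1) := by
  decide +kernel

theorem Wi_zero : Wi 0 = w0 := by decide +kernel

theorem w0_mem : w0 ∈ Mset := by
  rw [← Wi_zero]
  exact WlX_sub_Mset (Wi_mem (by norm_num))

theorem genIdx_lt (k : Fin 4) : genIdx k < 315 := by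
  fin_cases k <;> simp [genIdx]

theorem genF_mem (k : Fin 4) : genF k ∈ Spor.twoJ2 :=
  reflF_mem_twoJ2 (WlX_sub_Mset (Wi_mem (genIdx_lt k)))

theorem ConjToH_all {w : V3} (hw : w ∈ WlX) :
    ConjToH (Subgroup.closure (Set.range genF)) w := by
  have hH : ∀ s ∈ [0, 27, 100, 200], reflF (Wi s) ∈ Subgroup.closure (Set.range genF) := by
    intro s hs
    simp only [List.mem_cons, List.not_mem_nil, or_false] at hs
    apply Subgroup.subset_closure
    rcases hs with rfl | rfl | rfl | rfl
    · exact ⟨0, rfl⟩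
    · exact ⟨1, rfl⟩
    · exact ⟨2, rfl⟩
    · exact ⟨3, rfl⟩
  obtain ⟨i, hi, rfl⟩ := exists_Wi hw
  have h0 : ConjToH (Subgroup.closure (Set.range genF)) (Wi 0) := by
    rw [Wi_zero]
    exact ⟨1, Subgroup.one_mem _, by group⟩
  rcases certG_all i (List.mem_range.2 hi) with rfl | h
  · exact h0
  · obtain ⟨e, he, rfl⟩ := List.mem_map.1 h
    refine cert_sound _ _ hH certG [0] certG_order certG_steps ?_ e he
    intro j hj
    rw [List.mem_singleton] at hj
    subst hj
    exact ⟨by norm_num, h0⟩

/-- the reflection group is generated by four reflections -/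
theorem twoJ2_eq : Spor.twoJ2 = Subgroup.closure (Set.range genF) := by
  apply le_antisymm
  · unfold Spor.twoJ2
    rw [Subgroup.closure_le]
    intro f hf
    obtain ⟨w, hw, rfl⟩ := (isRefl_iff f).1 hf
    obtain ⟨g, hg, h⟩ := ConjToH_all hw
    rw [← h]
    have h0 : reflF w0 ∈ Subgroup.closure (Set.range genF) := by
      apply Subgroup.subset_closure
      refine ⟨0, ?_⟩
      show reflF (Wi 0) = reflF w0
      rw [Wi_zero]
    exact Subgroup.mul_mem _ (Subgroup.mul_mem _ hg h0) (Subgroup.inv_mem _ hg)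
  · rw [Subgroup.closure_le]
    rintro f ⟨k, rfl⟩
    exact genF_mem k

/-- any two reflections are conjugate in the reflection group -/
theorem refl_conj (f f' : Equiv.Perm Spor.icoLeech) (hf : Spor.IsIcoReflection f)
    (hf' : Spor.IsIcoReflection f') : ∃ g ∈ Spor.twoJ2, g * f * g⁻¹ = f' := by
  obtain ⟨w, hw, rfl⟩ := (isRefl_iff f).1 hf
  obtain ⟨w', hw', rfl⟩ := (isRefl_iff f').1 hf'
  obtain ⟨g1, hg1, h1⟩ := ConjToH_all hw
  obtain ⟨g2, hg2, h2⟩ := ConjToH_all hw'
  rw [← twoJ2_eq] at hg1 hg2
  refine ⟨g2 * g1⁻¹, Subgroup.mul_mem _ hg2 (Subgroup.inv_mem _ hg1), ?_⟩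
  rw [← h1, ← h2]
  group

end Cfsg.Agent.Lib.Lead.J2
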