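import Cfsg.Agent.Lib.Lead.J2.I2
import Cfsg.Agent.Lib.Lead.J2.P315

set_option autoImplicit false
set_option linter.unusedSimpArgs false
set_option linter.unnecessarySeqFocus false
set_option linter.unreachableTactic false
set_option linter.unusedTactic false
set_option linter.unusedVariables false
set_option linter.constructorNameAsVariable false

/-!
# The table of a generator of `P315` describes the action of a reflection on the lines
-/

namespace Cfsg.Agent.Lib.Lead.J2

set_option maxRecDepth 1000000 in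
set_option maxHeartbeats 0 in
theorem tabG_spec0_0 : ∀ j ∈ List.range' 0 35,
    nrm (qreflm (Wi 0) (Wi j)) = Wi ((tabG 0).getD j 0 % 315) := by decide +kernel

set_option maxRecDepth 1000000 in
set_option maxHeartbeats 0 in
theorem tabG_spec0_1 : ∀ j ∈ List.range' 35 35,
    nrm (qreflm (Wi 0) (Wi j)) = Wi ((tabG 0).getD j 0 % 315) := by decide +kernel

set_option maxRecDepth 1000000 in
set_option maxHeartbeats 0 in
theorem tabG_spec0_2 : ∀ j ∈ List.range' 70 35,
    nrm (qreflm (Wi 0) (Wi j)) = Wi ((tabG 0).getD j 0 % 315) := by decide +kernel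

set_option maxRecDepth 1000000 in
set_option maxHeartbeats 0 in
theorem tabG_spec0_3 : ∀ j ∈ List.range' 105 35,
    nrm (qreflm (Wi 0) (Wi j)) = Wi ((tabG 0).getD j 0 % 315) := by decide +kernel

set_option maxRecDepth 1000000 in
set_option maxHeartbeats 0 in
theorem tabG_spec0_4 : ∀ j ∈ List.range' 140 35,
    nrm (qreflm (Wi 0) (Wi j)) = Wi ((tabG 0).getD j 0 % 315) := by decide +kernel

set_option maxRecDepth 1000000 in
set_option maxHeartbeats 0 in
theorem tabG_spec0_5 : ∀ j ∈ List.range' 175 35,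
    nrm (qreflm (Wi 0) (Wi j)) = Wi ((tabG 0).getD j 0 % 315) := by decide +kernel

set_option maxRecDepth 1000000 in
set_option maxHeartbeats 0 in
theorem tabG_spec0_6 : ∀ j ∈ List.range' 210 35,
    nrm (qreflm (Wi 0) (Wi j)) = Wi ((tabG 0).getD j 0 % 315) := by decide +kernel

set_option maxRecDepth 1000000 in
set_option maxHeartbeats 0 in
theorem tabG_spec0_7 : ∀ j ∈ List.range' 245 35,
    nrm (qreflm (Wi 0) (Wi j)) = Wi ((tabG 0).getD j 0 % 315) := by decide +kernel

set_option maxRecDepth 1000000 in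
set_option maxHeartbeats 0 in
theorem tabG_spec0_8 : ∀ j ∈ List.range' 280 35,
    nrm (qreflm (Wi 0) (Wi j)) = Wi ((tabG 0).getD j 0 % 315) := by decide +kernel

theorem tabG_spec0 : ∀ j ∈ List.range 315,
    nrm (qreflm (Wi 0) (Wi j)) = Wi ((tabG 0).getD j 0 % 315) := by
  intro j hj
  rw [List.mem_range] at hj
  have hc : j / 35 < 9 := by omega
  have hm : ∀ c, j / 35 = c → j ∈ List.range' (35 * c) 35 := by
    intro c hc'
    rw [List.mem_range'_1]
    omega
  interval_cases h : j / 35
  · exact tabG_spec0_0 j (hm 0 rfl)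
  · exact tabG_spec0_1 j (hm 1 rfl)
  · exact tabG_spec0_2 j (hm 2 rfl)
  · exact tabG_spec0_3 j (hm 3 rfl)
  · exact tabG_spec0_4 j (hm 4 rfl)
  · exact tabG_spec0_5 j (hm 5 rfl)
  · exact tabG_spec0_6 j (hm 6 rfl)
  · exact tabG_spec0_7 j (hm 7 rfl)
  · exact tabG_spec0_8 j (hm 8 rfl)

end Cfsg.Agent.Lib.Lead.J2
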