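import Cfsg.Agent.Lib.Lead.J2.K3
import Cfsg.Agent.Lib.Lead.J2.I5
import Cfsg.Agent.Lib.Lead.J2.K5a
import Cfsg.Agent.Lib.Lead.J2.K5b
import Cfsg.Agent.Lib.Lead.J2.K5c
import Cfsg.Agent.Lib.Lead.J2.K5d

set_option autoImplicit false
set_option linter.unusedSimpArgs false
set_option linter.unnecessarySeqFocus false
set_option linter.unreachableTactic false
set_option linter.unusedTactic false
set_option linter.unusedVariables false
set_option linter.constructorNameAsVariable false

/-!
# The Hall–Janko group as a permutation group on the 315 reflections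
-/

namespace Cfsg.Agent.Lib.Lead.J2

open Quaternion

/-- the type of the reflections -/
abbrev Refl : Type := {f : Equiv.Perm Spor.icoLeech // Spor.IsIcoReflection f}

theorem conj_refl {g : Equiv.Perm Spor.icoLeech} (hg : g ∈ Spor.twoJ2)
    {f : Equiv.Perm Spor.icoLeech} (hf : Spor.IsIcoReflection f) :
    Spor.IsIcoReflection (g * f * g⁻¹) := by
  obtain ⟨l, hl, rfl⟩ := exists_word hg
  obtain ⟨w, hw, rfl⟩ := (isRefl_iff f).1 hf
  rw [wordF_conj hl (WlX_sub_Mset hw)]
  exact isRefl_reflF (wordM_mem_Mset hl (WlX_sub_Mset hw))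

noncomputable instance : MulAction ↥Spor.twoJ2 Refl where
  smul g f := ⟨g.1 * f.1 * g.1⁻¹, conj_refl g.2 f.2⟩
  one_smul f := Subtype.ext (by
    show (1 : Equiv.Perm Spor.icoLeech) * f.1 * (1 : Equiv.Perm Spor.icoLeech)⁻¹ = f.1
    group)
  mul_smul g h f := Subtype.ext (by
    show (g.1 * h.1) * f.1 * (g.1 * h.1)⁻¹ = g.1 * (h.1 * f.1 * h.1⁻¹) * g.1⁻¹
    group)

theorem smul_val (g : ↥Spor.twoJ2) (f : Refl) : (g • f).1 = g.1 * f.1 * g.1⁻¹ := rfl

/-- the conjugation action on the reflections -/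
noncomputable def rho : ↥Spor.twoJ2 →* Equiv.Perm Refl := MulAction.toPermHom ↥Spor.twoJ2 Refl

theorem rho_apply (g : ↥Spor.twoJ2) (f : Refl) : rho g f = g • f := rfl

theorem rho_ker : rho.ker = Subgroup.center ↥Spor.twoJ2 := by
  ext g
  rw [MonoidHom.mem_ker, Subgroup.mem_center_iff]
  constructor
  · intro h
    have hc : ∀ f, Spor.IsIcoReflection f → f ∈ Subgroup.centralizer {(g : Equiv.Perm Spor.icoLeech)} := by
      intro f hf
      rw [Subgroup.mem_centralizer_singleton_iff]
      have h1 := congrArg (fun p : Equiv.Perm Refl => (p ⟨f, hf⟩).1) h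
      beta_reduce at h1
      rw [rho_apply, smul_val, Equiv.Perm.one_apply] at h1
      -- `g f g⁻¹ = f`
      calc f * g = (g * f * (g : Equiv.Perm Spor.icoLeech)⁻¹) * g := by rw [h1]
        _ = g * f := by group
    have hle : Spor.twoJ2 ≤ Subgroup.centralizer {(g : Equiv.Perm Spor.icoLeech)} := by
      unfold Spor.twoJ2
      rw [Subgroup.closure_le]
      exact hc
    intro k
    apply Subtype.ext
    have := hle k.2
    rw [Subgroup.mem_centralizer_singleton_iff] at this
    exact this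
  · intro h
    apply Equiv.ext
    intro f
    apply Subtype.ext
    rw [rho_apply, smul_val, Equiv.Perm.one_apply]
    have := h ⟨f.1, Subgroup.subset_closure f.2⟩
    have h2 : f.1 * (g : Equiv.Perm Spor.icoLeech) = g * f.1 := congrArg Subtype.val this
    rw [← h2]
    group

theorem Wi_inj {i j : ℕ} (hi : i < 315) (hj : j < 315) (h : Wi i = Wi j) : i = j := by
  unfold Wi at h
  have hi' : i < WlX.length := by rw [WlX_length]; exact hi
  have hj' : j < WlX.length := by rw [WlX_length]; exact hj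
  rw [List.getD_eq_getElem _ _ hi', List.getD_eq_getElem _ _ hj'] at h
  exact (WlX_nodup.getElem_inj_iff).1 h

/-- the reflections, indexed -/
noncomputable def reflIdx (i : Fin 315) : Refl :=
  ⟨reflF (Wi i), isRefl_reflF (WlX_sub_Mset (Wi_mem i.2))⟩

theorem reflIdx_bij : Function.Bijective reflIdx := by
  constructor
  · intro i j h
    have h1 : reflF (Wi i) = reflF (Wi j) := congrArg Subtype.val h
    exact Fin.ext (Wi_inj i.2 j.2 (reflF_injOn (Wi_mem i.2) (Wi_mem j.2) h1))
  · intro f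
    obtain ⟨w, hw, hf⟩ := (isRefl_iff f.1).1 f.2
    obtain ⟨i, hi, rfl⟩ := exists_Wi hw
    exact ⟨⟨i, hi⟩, Subtype.ext hf.symm⟩

/-- the reflections are in bijection with `Fin 315` -/
noncomputable def reflEquiv : Fin 315 ≃ Refl := Equiv.ofBijective reflIdx reflIdx_bij

/-- the action on `Fin 315` -/
noncomputable def psi : ↥Spor.twoJ2 →* Equiv.Perm (Fin 315) :=
  (reflEquiv.symm.permCongrHom.toMonoidHom).comp rho

theorem psi_apply (g : ↥Spor.twoJ2) (j : Fin 315) :
    psi g j = reflEquiv.symm (rho g (reflEquiv j)) := rfl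

theorem psi_ker : psi.ker = Subgroup.center ↥Spor.twoJ2 := by
  rw [← rho_ker]
  ext g
  rw [MonoidHom.mem_ker, MonoidHom.mem_ker]
  show reflEquiv.symm.permCongrHom (rho g) = 1 ↔ _
  rw [MulEquiv.map_eq_one_iff]

theorem tabG_spec (k : Fin 4) (j : Fin 315) :
    nrm (qreflm (Wi (genIdx k)) (Wi j)) = Wi (piG k j) := by
  have hj := List.mem_range.2 j.2
  fin_cases k
  · exact tabG_spec0 j hj
  · exact tabG_spec1 j hj
  · exact tabG_spec2 j hj
  · exact tabG_spec3 j hj

/-- the generators as elements of the reflection group -/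
noncomputable def genT (k : Fin 4) : ↥Spor.twoJ2 := ⟨genF k, genF_mem k⟩

theorem psi_gen (k : Fin 4) : psi (genT k) = piG k := by
  apply Equiv.ext
  intro j
  rw [psi_apply, Equiv.symm_apply_eq]
  apply Subtype.ext
  rw [rho_apply, smul_val]
  show genF k * reflF (Wi j) * (genF k)⁻¹ = reflF (Wi (piG k j))
  have hs := WlX_sub_Mset (Wi_mem (genIdx_lt k))
  have hj := WlX_sub_Mset (Wi_mem j.2)
  unfold genF
  rw [reflF_conj hs hj, ← reflF_nrm (qreflm_mem_Mset hs hj), tabG_spec]

theorem psi_range : psi.range = P315 := by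
  apply le_antisymm
  · rintro _ ⟨g, rfl⟩
    obtain ⟨g, hg⟩ := g
    have hg' : g ∈ Subgroup.closure (Set.range genF) := by rw [← twoJ2_eq]; exact hg
    revert hg
    induction hg' using Subgroup.closure_induction with
    | mem x hx =>
      intro hg
      obtain ⟨k, rfl⟩ := hx
      have : (⟨genF k, hg⟩ : ↥Spor.twoJ2) = genT k := rfl
      rw [this, psi_gen]
      exact Subgroup.subset_closure ⟨k, rfl⟩
    | one =>
      intro hg
      have : (⟨1, hg⟩ : ↥Spor.twoJ2) = 1 := rfl
      rw [this, map_one]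
      exact Subgroup.one_mem _
    | mul x y hx hy ihx ihy =>
      intro hg
      have hx' : x ∈ Spor.twoJ2 := by rw [twoJ2_eq]; exact hx
      have hy' : y ∈ Spor.twoJ2 := by rw [twoJ2_eq]; exact hy
      have : (⟨x * y, hg⟩ : ↥Spor.twoJ2) = ⟨x, hx'⟩ * ⟨y, hy'⟩ := rfl
      rw [this, map_mul]
      exact Subgroup.mul_mem _ (ihx hx') (ihy hy')
    | inv x hx ihx =>
      intro hg
      have hx' : x ∈ Spor.twoJ2 := by rw [twoJ2_eq]; exact hx
      have : (⟨x⁻¹, hg⟩ : ↥Spor.twoJ2) = (⟨x, hx'⟩ : ↥Spor.twoJ2)⁻¹ := rfl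
      rw [this, map_inv]
      exact Subgroup.inv_mem _ (ihx hx')
  · unfold P315
    rw [Subgroup.closure_le]
    rintro _ ⟨k, rfl⟩
    exact ⟨genT k, psi_gen k⟩

/-- the Hall–Janko group is isomorphic to the permutation group `P315` -/
theorem J2_equiv : Nonempty (Spor.J2 ≃* P315) := by
  have e1 : Spor.J2 ≃* ↥Spor.twoJ2 ⧸ psi.ker :=
    QuotientGroup.quotientMulEquivOfEq psi_ker.symm
  have e2 : ↥Spor.twoJ2 ⧸ psi.ker ≃* psi.range := QuotientGroup.quotientKerEquivRange psi
  have e3 : psi.range ≃* P315 := MulEquiv.subgroupCongr psi_range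
  exact ⟨(e1.trans e2).trans e3⟩

end Cfsg.Agent.Lib.Lead.J2
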