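import Mathlib
import Cfsg.Prelude.Def_Spor_J2

set_option autoImplicit false

/-!
# The icosians inside a computable quaternion algebra

`Kq` is the field `ℚ(τ)` with `τ² = 1 + τ` in the form `QuadraticAlgebra ℚ 1 1`; `Aq` is the
quaternion algebra over it.  `Phi : Aq →+* ℍ[ℝ]` is the embedding sending `τ` to the golden
ratio.
-/

namespace Cfsg.Agent.Lib.Lead.J2

open Quaternion

abbrev Kq := QuadraticAlgebra ℚ 1 1
abbrev Aq := ℍ[Kq]

instance decEqAq : DecidableEq Aq := fun x y =>
  decidable_of_iff (x.re = y.re ∧ x.imI = y.imI ∧ x.imJ = y.imJ ∧ x.imK = y.imK)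
    ⟨fun h => QuaternionAlgebra.ext h.1 h.2.1 h.2.2.1 h.2.2.2, fun h => by subst h; exact ⟨rfl, rfl, rfl, rfl⟩⟩

theorem sqrt5_mul : Real.sqrt 5 * Real.sqrt 5 = 5 := Real.mul_self_sqrt (by norm_num)

theorem tau_sq : Spor.tau * Spor.tau = 1 + Spor.tau := by
  unfold Spor.tau
  nlinarith [sqrt5_mul]

theorem sig_eq : Spor.sig = 1 - Spor.tau := by
  unfold Spor.sig Spor.tau
  ring

theorem sqrt5_eq : Real.sqrt 5 = 2 * Spor.tau - 1 := by
  unfold Spor.tau
  ring

theorem tau_irrational : Irrational Spor.tau := by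
  have h5 : Irrational (Real.sqrt 5) := by
    have := Nat.Prime.irrational_sqrt (show Nat.Prime 5 by norm_num)
    exact_mod_cast this
  have h1 : Irrational (((1 : ℚ) : ℝ) + Real.sqrt 5) := h5.ratCast_add (q := 1)
  have h2 := h1.div_ratCast (q := 2) (by norm_num)
  unfold Spor.tau
  have e : (((1 : ℚ) : ℝ) + Real.sqrt 5) / ((2 : ℚ) : ℝ) = (1 + Real.sqrt 5) / 2 := by
    push_cast
    ring
  rwa [e] at h2

/-- the embedding of `ℚ(τ)` into the reals -/
noncomputable def iota : Kq →+* ℝ where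
  toFun z := (z.re : ℝ) + (z.im : ℝ) * Spor.tau
  map_one' := by
    show (((1 : ℚ) : ℝ)) + (((0 : ℚ) : ℝ)) * Spor.tau = 1
    simp
  map_zero' := by
    show (((0 : ℚ) : ℝ)) + (((0 : ℚ) : ℝ)) * Spor.tau = 0
    simp
  map_add' z w := by
    simp only [QuadraticAlgebra.re_add, QuadraticAlgebra.im_add, Rat.cast_add]
    ring
  map_mul' z w := by
    simp only [QuadraticAlgebra.re_mul, QuadraticAlgebra.im_mul, Rat.cast_add, Rat.cast_mul,
      one_mul]
    linear_combination (-((z.im : ℝ) * (w.im : ℝ))) * tau_sq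

theorem iota_apply (z : Kq) : iota z = (z.re : ℝ) + (z.im : ℝ) * Spor.tau := rfl

theorem iota_injective : Function.Injective iota := by
  rw [injective_iff_map_eq_zero]
  intro z hz
  rw [iota_apply] at hz
  have him : z.im = 0 := by
    by_contra h
    have h1 : Spor.tau = ((-z.re / z.im : ℚ) : ℝ) := by
      have h2 : (z.im : ℝ) ≠ 0 := by exact_mod_cast h
      push_cast
      field_simp
      linarith
    exact tau_irrational ⟨_, h1.symm⟩
  have hre : z.re = 0 := by
    rw [him] at hz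
    simpa using hz
  exact QuadraticAlgebra.ext hre him

/-- the underlying function of `Phi` -/
noncomputable def PhiF (x : Aq) : ℍ[ℝ] := ⟨iota x.re, iota x.imI, iota x.imJ, iota x.imK⟩

theorem PhiF_re (x : Aq) : (PhiF x).re = iota x.re := rfl
theorem PhiF_imI (x : Aq) : (PhiF x).imI = iota x.imI := rfl
theorem PhiF_imJ (x : Aq) : (PhiF x).imJ = iota x.imJ := rfl
theorem PhiF_imK (x : Aq) : (PhiF x).imK = iota x.imK := rfl

/-- the embedding of the computable quaternion algebra into the real quaternions -/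
noncomputable def Phi : Aq →+* ℍ[ℝ] where
  toFun := PhiF
  map_one' := by ext <;> simp [PhiF_re, PhiF_imI, PhiF_imJ, PhiF_imK]
  map_zero' := by ext <;> simp [PhiF_re, PhiF_imI, PhiF_imJ, PhiF_imK]
  map_add' x y := by ext <;> simp [PhiF_re, PhiF_imI, PhiF_imJ, PhiF_imK]
  map_mul' x y := by
    ext <;> simp only [PhiF_re, PhiF_imI, PhiF_imJ, PhiF_imK, re_mul, imI_mul, imJ_mul, imK_mul,
      map_add, map_sub, map_mul]

theorem Phi_re (x : Aq) : (Phi x).re = iota x.re := rfl
theorem Phi_imI (x : Aq) : (Phi x).imI = iota x.imI := rfl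
theorem Phi_imJ (x : Aq) : (Phi x).imJ = iota x.imJ := rfl
theorem Phi_imK (x : Aq) : (Phi x).imK = iota x.imK := rfl

theorem Phi_injective : Function.Injective Phi := by
  intro x y h
  have h1 := congrArg (fun q : ℍ[ℝ] => q.re) h
  have h2 := congrArg (fun q : ℍ[ℝ] => q.imI) h
  have h3 := congrArg (fun q : ℍ[ℝ] => q.imJ) h
  have h4 := congrArg (fun q : ℍ[ℝ] => q.imK) h
  exact QuaternionAlgebra.ext (iota_injective h1) (iota_injective h2) (iota_injective h3)
    (iota_injective h4)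

theorem Phi_star (x : Aq) : Phi (star x) = star (Phi x) := by
  ext <;> simp [Phi_re, Phi_imI, Phi_imJ, Phi_imK]

/-- real scalars in the image -/
theorem Phi_coe (k : Kq) : Phi (k : Aq) = ((iota k : ℝ) : ℍ[ℝ]) := by
  ext <;> simp [Phi_re, Phi_imI, Phi_imJ, Phi_imK]

end Cfsg.Agent.Lib.Lead.J2
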