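import Cfsg.Agent.Lib.Lead.J2.A

set_option autoImplicit false
set_option linter.unusedSimpArgs false
set_option linter.unnecessarySeqFocus false
set_option linter.unreachableTactic false
set_option linter.unusedTactic false

/-!
# The ring of icosians in the computable model
-/

namespace Cfsg.Agent.Lib.Lead.J2

open Quaternion

/-- an element of the model algebra from its eight rational coordinates -/
def mkA (c0 c1 c2 c3 c4 c5 c6 c7 : ℚ) : Aq := ⟨⟨c0, c1⟩, ⟨c2, c3⟩, ⟨c4, c5⟩, ⟨c6, c7⟩⟩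

theorem mkA_re (c0 c1 c2 c3 c4 c5 c6 c7 : ℚ) : (mkA c0 c1 c2 c3 c4 c5 c6 c7).re = ⟨c0, c1⟩ := rfl
theorem mkA_imI (c0 c1 c2 c3 c4 c5 c6 c7 : ℚ) : (mkA c0 c1 c2 c3 c4 c5 c6 c7).imI = ⟨c2, c3⟩ := rfl
theorem mkA_imJ (c0 c1 c2 c3 c4 c5 c6 c7 : ℚ) : (mkA c0 c1 c2 c3 c4 c5 c6 c7).imJ = ⟨c4, c5⟩ := rfl
theorem mkA_imK (c0 c1 c2 c3 c4 c5 c6 c7 : ℚ) : (mkA c0 c1 c2 c3 c4 c5 c6 c7).imK = ⟨c6, c7⟩ := rfl

theorem iota_mk (r s : ℚ) : iota ⟨r, s⟩ = (r : ℝ) + (s : ℝ) * Spor.tau := rfl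

def cc0 (x : Aq) : ℚ := x.re.re
def cc1 (x : Aq) : ℚ := x.re.im
def cc2 (x : Aq) : ℚ := x.imI.re
def cc3 (x : Aq) : ℚ := x.imI.im
def cc4 (x : Aq) : ℚ := x.imJ.re
def cc5 (x : Aq) : ℚ := x.imJ.im
def cc6 (x : Aq) : ℚ := x.imK.re
def cc7 (x : Aq) : ℚ := x.imK.im

theorem mkA_cc (x : Aq) : mkA (cc0 x) (cc1 x) (cc2 x) (cc3 x) (cc4 x) (cc5 x) (cc6 x) (cc7 x) = x := rfl

theorem ext8 {x y : Aq} (h0 : cc0 x = cc0 y) (h1 : cc1 x = cc1 y) (h2 : cc2 x = cc2 y)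
    (h3 : cc3 x = cc3 y) (h4 : cc4 x = cc4 y) (h5 : cc5 x = cc5 y) (h6 : cc6 x = cc6 y)
    (h7 : cc7 x = cc7 y) : x = y :=
  QuaternionAlgebra.ext (QuadraticAlgebra.ext h0 h1) (QuadraticAlgebra.ext h2 h3)
    (QuadraticAlgebra.ext h4 h5) (QuadraticAlgebra.ext h6 h7)

theorem cc0_mkA (c0 c1 c2 c3 c4 c5 c6 c7 : ℚ) : cc0 (mkA c0 c1 c2 c3 c4 c5 c6 c7) = c0 := rfl
theorem cc0_add (x y : Aq) : cc0 (x + y) = cc0 x + cc0 y := rfl
theorem cc0_neg (x : Aq) : cc0 (-x) = -cc0 x := rfl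
theorem cc0_sub (x y : Aq) : cc0 (x - y) = cc0 x - cc0 y := rfl
theorem cc0_zero : cc0 (0 : Aq) = 0 := rfl
theorem cc0_zsmul (n : ℤ) (x : Aq) : cc0 (n • x) = n • cc0 x := rfl
theorem cc1_mkA (c0 c1 c2 c3 c4 c5 c6 c7 : ℚ) : cc1 (mkA c0 c1 c2 c3 c4 c5 c6 c7) = c1 := rfl
theorem cc1_add (x y : Aq) : cc1 (x + y) = cc1 x + cc1 y := rfl
theorem cc1_neg (x : Aq) : cc1 (-x) = -cc1 x := rfl
theorem cc1_sub (x y : Aq) : cc1 (x - y) = cc1 x - cc1 y := rfl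
theorem cc1_zero : cc1 (0 : Aq) = 0 := rfl
theorem cc1_zsmul (n : ℤ) (x : Aq) : cc1 (n • x) = n • cc1 x := rfl
theorem cc2_mkA (c0 c1 c2 c3 c4 c5 c6 c7 : ℚ) : cc2 (mkA c0 c1 c2 c3 c4 c5 c6 c7) = c2 := rfl
theorem cc2_add (x y : Aq) : cc2 (x + y) = cc2 x + cc2 y := rfl
theorem cc2_neg (x : Aq) : cc2 (-x) = -cc2 x := rfl
theorem cc2_sub (x y : Aq) : cc2 (x - y) = cc2 x - cc2 y := rfl
theorem cc2_zero : cc2 (0 : Aq) = 0 := rfl
theorem cc2_zsmul (n : ℤ) (x : Aq) : cc2 (n • x) = n • cc2 x := rfl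
theorem cc3_mkA (c0 c1 c2 c3 c4 c5 c6 c7 : ℚ) : cc3 (mkA c0 c1 c2 c3 c4 c5 c6 c7) = c3 := rfl
theorem cc3_add (x y : Aq) : cc3 (x + y) = cc3 x + cc3 y := rfl
theorem cc3_neg (x : Aq) : cc3 (-x) = -cc3 x := rfl
theorem cc3_sub (x y : Aq) : cc3 (x - y) = cc3 x - cc3 y := rfl
theorem cc3_zero : cc3 (0 : Aq) = 0 := rfl
theorem cc3_zsmul (n : ℤ) (x : Aq) : cc3 (n • x) = n • cc3 x := rfl
theorem cc4_mkA (c0 c1 c2 c3 c4 c5 c6 c7 : ℚ) : cc4 (mkA c0 c1 c2 c3 c4 c5 c6 c7) = c4 := rfl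
theorem cc4_add (x y : Aq) : cc4 (x + y) = cc4 x + cc4 y := rfl
theorem cc4_neg (x : Aq) : cc4 (-x) = -cc4 x := rfl
theorem cc4_sub (x y : Aq) : cc4 (x - y) = cc4 x - cc4 y := rfl
theorem cc4_zero : cc4 (0 : Aq) = 0 := rfl
theorem cc4_zsmul (n : ℤ) (x : Aq) : cc4 (n • x) = n • cc4 x := rfl
theorem cc5_mkA (c0 c1 c2 c3 c4 c5 c6 c7 : ℚ) : cc5 (mkA c0 c1 c2 c3 c4 c5 c6 c7) = c5 := rfl
theorem cc5_add (x y : Aq) : cc5 (x + y) = cc5 x + cc5 y := rfl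
theorem cc5_neg (x : Aq) : cc5 (-x) = -cc5 x := rfl
theorem cc5_sub (x y : Aq) : cc5 (x - y) = cc5 x - cc5 y := rfl
theorem cc5_zero : cc5 (0 : Aq) = 0 := rfl
theorem cc5_zsmul (n : ℤ) (x : Aq) : cc5 (n • x) = n • cc5 x := rfl
theorem cc6_mkA (c0 c1 c2 c3 c4 c5 c6 c7 : ℚ) : cc6 (mkA c0 c1 c2 c3 c4 c5 c6 c7) = c6 := rfl
theorem cc6_add (x y : Aq) : cc6 (x + y) = cc6 x + cc6 y := rfl
theorem cc6_neg (x : Aq) : cc6 (-x) = -cc6 x := rfl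
theorem cc6_sub (x y : Aq) : cc6 (x - y) = cc6 x - cc6 y := rfl
theorem cc6_zero : cc6 (0 : Aq) = 0 := rfl
theorem cc6_zsmul (n : ℤ) (x : Aq) : cc6 (n • x) = n • cc6 x := rfl
theorem cc7_mkA (c0 c1 c2 c3 c4 c5 c6 c7 : ℚ) : cc7 (mkA c0 c1 c2 c3 c4 c5 c6 c7) = c7 := rfl
theorem cc7_add (x y : Aq) : cc7 (x + y) = cc7 x + cc7 y := rfl
theorem cc7_neg (x : Aq) : cc7 (-x) = -cc7 x := rfl
theorem cc7_sub (x y : Aq) : cc7 (x - y) = cc7 x - cc7 y := rfl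
theorem cc7_zero : cc7 (0 : Aq) = 0 := rfl
theorem cc7_zsmul (n : ℤ) (x : Aq) : cc7 (n • x) = n • cc7 x := rfl

/-- the quaternion unit `i` -/
def qIm : Aq := mkA 0 0 1 0 0 0 0 0
/-- `(1 + σ i + τ k) / 2` -/
def omm : Aq := mkA (1/2) 0 (1/2) (-1/2) 0 0 0 (1/2)
/-- `(-√5 + i + j + k) / 2` -/
def hm : Aq := mkA (1/2) (-1) (1/2) 0 (1/2) 0 (1/2) 0

theorem Phi_mkA (c0 c1 c2 c3 c4 c5 c6 c7 : ℚ) : Phi (mkA c0 c1 c2 c3 c4 c5 c6 c7) =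
    ⟨c0 + c1 * Spor.tau, c2 + c3 * Spor.tau, c4 + c5 * Spor.tau, c6 + c7 * Spor.tau⟩ := by
  ext <;> simp only [Phi_re, Phi_imI, Phi_imJ, Phi_imK, mkA_re, mkA_imI, mkA_imJ, mkA_imK, iota_mk]

theorem Phi_qIm : Phi qIm = Spor.qI := by
  rw [qIm, Phi_mkA, Spor.qI]
  ext <;> simp

theorem Phi_omm : Phi omm = ⟨1 / 2, Spor.sig / 2, 0, Spor.tau / 2⟩ := by
  rw [omm, Phi_mkA, sig_eq]
  ext <;> simp <;> ring

theorem Phi_hm : Phi hm = Spor.icoH := by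
  rw [hm, Phi_mkA, Spor.icoH, sqrt5_eq]
  ext <;> simp <;> ring

/-- a `ℤ`-basis of the icosians consisting of units -/
def Bv : Fin 8 → Aq :=
  ![1, qIm, omm, qIm * omm, omm * qIm, qIm * omm * qIm, omm * qIm * omm, qIm * omm * qIm * omm]

/-- integer combination of the basis, by coordinates -/
def span8 (k : Fin 8 → ℤ) : Aq :=
  mkA (k 0 + (k 2 - k 3 - k 4 - k 5 - k 6) / 2) ((k 3 + k 4 + k 6 - k 7) / 2)
    (k 1 + (k 2 + k 3 + k 4 - k 5 - k 7) / 2) ((-k 2 + k 5 + k 6 + k 7) / 2)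
    (-k 7 / 2) ((-k 3 + k 4) / 2) (k 6 / 2) ((k 2 + k 5) / 2)

/-- the coordinates with respect to the basis (meaningful for icosians) -/
def coords (x : Aq) : Fin 8 → ℤ :=
  ![⌊cc0 x + cc1 x + cc3 x - cc6 x⌋, ⌊-cc1 x + cc2 x + cc3 x + cc4 x⌋,
    ⌊-cc3 x - cc4 x + cc6 x + cc7 x⌋, ⌊cc1 x - cc4 x - cc5 x - cc6 x⌋,
    ⌊cc1 x - cc4 x + cc5 x - cc6 x⌋, ⌊cc3 x + cc4 x - cc6 x + cc7 x⌋,
    ⌊2 * cc6 x⌋, ⌊-2 * cc4 x⌋]

/-- membership test for the icosians -/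
def inI (x : Aq) : Bool := decide (span8 (coords x) = x)

theorem coords_span8 (k : Fin 8 → ℤ) : coords (span8 k) = k := by
  funext j
  fin_cases j <;> simp [coords, span8, mkA, cc0, cc1, cc2, cc3, cc4, cc5, cc6, cc7] <;>
    (first | (ring_nf; simp) | skip)

theorem inI_iff (x : Aq) : inI x = true ↔ ∃ k, x = span8 k := by
  constructor
  · intro h
    exact ⟨coords x, (of_decide_eq_true h).symm⟩
  · rintro ⟨k, rfl⟩
    exact decide_eq_true (by rw [coords_span8])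

theorem span8_add (k l : Fin 8 → ℤ) : span8 (k + l) = span8 k + span8 l := by
  apply ext8 <;> simp only [span8, Pi.add_apply, cc0_mkA, cc1_mkA, cc2_mkA, cc3_mkA, cc4_mkA, cc5_mkA, cc6_mkA, cc7_mkA, cc0_add, cc1_add, cc2_add, cc3_add, cc4_add, cc5_add, cc6_add, cc7_add, cc0_neg, cc1_neg, cc2_neg, cc3_neg, cc4_neg, cc5_neg, cc6_neg, cc7_neg, cc0_zero, cc1_zero, cc2_zero, cc3_zero, cc4_zero, cc5_zero, cc6_zero, cc7_zero, cc0_zsmul, cc1_zsmul, cc2_zsmul, cc3_zsmul, cc4_zsmul, cc5_zsmul, cc6_zsmul, cc7_zsmul] <;> push_cast <;> ring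

theorem span8_neg (k : Fin 8 → ℤ) : span8 (-k) = -span8 k := by
  apply ext8 <;> simp only [span8, Pi.neg_apply, cc0_mkA, cc1_mkA, cc2_mkA, cc3_mkA, cc4_mkA, cc5_mkA, cc6_mkA, cc7_mkA, cc0_add, cc1_add, cc2_add, cc3_add, cc4_add, cc5_add, cc6_add, cc7_add, cc0_neg, cc1_neg, cc2_neg, cc3_neg, cc4_neg, cc5_neg, cc6_neg, cc7_neg, cc0_zero, cc1_zero, cc2_zero, cc3_zero, cc4_zero, cc5_zero, cc6_zero, cc7_zero, cc0_zsmul, cc1_zsmul, cc2_zsmul, cc3_zsmul, cc4_zsmul, cc5_zsmul, cc6_zsmul, cc7_zsmul] <;> push_cast <;> ring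

theorem span8_zero : span8 0 = 0 := by
  apply ext8 <;> simp only [span8, Pi.zero_apply, cc0_mkA, cc1_mkA, cc2_mkA, cc3_mkA, cc4_mkA, cc5_mkA, cc6_mkA, cc7_mkA, cc0_add, cc1_add, cc2_add, cc3_add, cc4_add, cc5_add, cc6_add, cc7_add, cc0_neg, cc1_neg, cc2_neg, cc3_neg, cc4_neg, cc5_neg, cc6_neg, cc7_neg, cc0_zero, cc1_zero, cc2_zero, cc3_zero, cc4_zero, cc5_zero, cc6_zero, cc7_zero, cc0_zsmul, cc1_zsmul, cc2_zsmul, cc3_zsmul, cc4_zsmul, cc5_zsmul, cc6_zsmul, cc7_zsmul] <;> simp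

/-- the icosians of the model as an additive subgroup -/
def Rng : AddSubgroup Aq where
  carrier := {x | inI x = true}
  add_mem' := by
    intro x y hx hy
    obtain ⟨k, rfl⟩ := (inI_iff x).1 hx
    obtain ⟨l, rfl⟩ := (inI_iff y).1 hy
    exact (inI_iff _).2 ⟨k + l, (span8_add k l).symm⟩
  zero_mem' := (inI_iff _).2 ⟨0, span8_zero.symm⟩
  neg_mem' := by
    intro x hx
    obtain ⟨k, rfl⟩ := (inI_iff x).1 hx
    exact (inI_iff _).2 ⟨-k, (span8_neg k).symm⟩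

theorem mem_Rng (x : Aq) : x ∈ Rng ↔ inI x = true := Iff.rfl

theorem span8_eq (k : Fin 8 → ℤ) : span8 k = k 0 • Bv 0 + k 1 • Bv 1 + k 2 • Bv 2 + k 3 • Bv 3 +
    k 4 • Bv 4 + k 5 • Bv 5 + k 6 • Bv 6 + k 7 • Bv 7 := by
  have e0 : Bv 0 = mkA 1 0 0 0 0 0 0 0 := by decide +kernel
  have e1 : Bv 1 = mkA 0 0 1 0 0 0 0 0 := by decide +kernel
  have e2 : Bv 2 = mkA (1/2) 0 (1/2) (-1/2) 0 0 0 (1/2) := by decide +kernel
  have e3 : Bv 3 = mkA (-1/2) (1/2) (1/2) 0 0 (-1/2) 0 0 := by decide +kernel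
  have e4 : Bv 4 = mkA (-1/2) (1/2) (1/2) 0 0 (1/2) 0 0 := by decide +kernel
  have e5 : Bv 5 = mkA (-1/2) 0 (-1/2) (1/2) 0 0 0 (1/2) := by decide +kernel
  have e6 : Bv 6 = mkA (-1/2) (1/2) 0 (1/2) 0 0 (1/2) 0 := by decide +kernel
  have e7 : Bv 7 = mkA 0 (-1/2) (-1/2) (1/2) (-1/2) 0 0 0 := by decide +kernel
  rw [e0, e1, e2, e3, e4, e5, e6, e7]
  apply ext8 <;> simp only [span8, cc0_mkA, cc1_mkA, cc2_mkA, cc3_mkA, cc4_mkA, cc5_mkA, cc6_mkA, cc7_mkA, cc0_add, cc1_add, cc2_add, cc3_add, cc4_add, cc5_add, cc6_add, cc7_add, cc0_neg, cc1_neg, cc2_neg, cc3_neg, cc4_neg, cc5_neg, cc6_neg, cc7_neg, cc0_zero, cc1_zero, cc2_zero, cc3_zero, cc4_zero, cc5_zero, cc6_zero, cc7_zero, cc0_zsmul, cc1_zsmul, cc2_zsmul, cc3_zsmul, cc4_zsmul, cc5_zsmul, cc6_zsmul, cc7_zsmul] <;> simp only [zsmul_eq_mul] <;> ring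

theorem Bv_mul_mem : ∀ i j, inI (Bv i * Bv j) = true := by decide +kernel

theorem Bv_star_mem : ∀ i, inI (star (Bv i)) = true := by decide +kernel

theorem smul_mul_mem (a b : ℤ) (i j : Fin 8) : (a • Bv i) * (b • Bv j) ∈ Rng := by
  rw [smul_mul_smul_comm]
  exact Rng.zsmul_mem (Bv_mul_mem i j) _

theorem span8_sum (k : Fin 8 → ℤ) : span8 k = ∑ i, k i • Bv i := by
  rw [span8_eq, Fin.sum_univ_eight]

theorem inI_mul {x y : Aq} (hx : inI x = true) (hy : inI y = true) : inI (x * y) = true := by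
  obtain ⟨k, rfl⟩ := (inI_iff x).1 hx
  obtain ⟨l, rfl⟩ := (inI_iff y).1 hy
  rw [← mem_Rng, span8_sum k, span8_sum l, Finset.sum_mul_sum]
  exact Rng.sum_mem fun i _ => Rng.sum_mem fun j _ => smul_mul_mem _ _ _ _

theorem inI_star {x : Aq} (hx : inI x = true) : inI (star x) = true := by
  obtain ⟨k, rfl⟩ := (inI_iff x).1 hx
  rw [← mem_Rng, span8_sum k,
    show star (∑ i, k i • Bv i) = ∑ i, star (k i • Bv i) from map_sum (starAddEquiv : Aq ≃+ Aq) _ _]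
  refine Rng.sum_mem fun i _ => ?_
  rw [Quaternion.star_smul]
  exact Rng.zsmul_mem (Bv_star_mem _) _

theorem inI_one : inI 1 = true := by decide +kernel
theorem inI_qIm : inI qIm = true := by decide +kernel
theorem inI_omm : inI omm = true := by decide +kernel
theorem inI_hm : inI hm = true := by decide +kernel

/-- the icosians of the model -/
def Im : Subring Aq := Subring.closure {qIm, omm}

theorem Bv_mem_Im (i : Fin 8) : Bv i ∈ Im := by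
  have h1 : qIm ∈ Im := Subring.subset_closure (by simp)
  have h2 : omm ∈ Im := Subring.subset_closure (by simp)
  fin_cases i
  · exact Im.one_mem
  · exact h1
  · exact h2
  · exact Im.mul_mem h1 h2
  · exact Im.mul_mem h2 h1
  · exact Im.mul_mem (Im.mul_mem h1 h2) h1
  · exact Im.mul_mem (Im.mul_mem h2 h1) h2
  · exact Im.mul_mem (Im.mul_mem (Im.mul_mem h1 h2) h1) h2

theorem mem_Im_iff (x : Aq) : x ∈ Im ↔ inI x = true := by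
  constructor
  · intro hx
    induction hx using Subring.closure_induction with
    | mem y hy =>
      rcases hy with rfl | rfl
      · exact inI_qIm
      · exact inI_omm
    | zero => exact Rng.zero_mem
    | one => exact inI_one
    | add y z _ _ hy hz => exact Rng.add_mem hy hz
    | neg y _ hy => exact Rng.neg_mem hy
    | mul y z _ _ hy hz => exact inI_mul hy hz
  · intro hx
    obtain ⟨k, rfl⟩ := (inI_iff x).1 hx
    rw [span8_sum]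
    exact Im.sum_mem fun i _ => Im.zsmul_mem (Bv_mem_Im _) _

theorem icosians_eq : Spor.icosians = Im.map Phi := by
  unfold Spor.icosians Im
  rw [RingHom.map_closure]
  congr 1
  rw [Set.image_pair, Phi_qIm, Phi_omm]

end Cfsg.Agent.Lib.Lead.J2
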