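import Cfsg.Agent.Lib.Lead.J2.B

set_option autoImplicit false
set_option linter.unusedSimpArgs false
set_option linter.unnecessarySeqFocus false
set_option linter.unreachableTactic false
set_option linter.unusedTactic false

/-!
# The icosian Leech lattice in the computable model
-/

namespace Cfsg.Agent.Lib.Lead.J2

open Quaternion

/-- `1/2` -/
def halfA : Aq := mkA (1/2) 0 0 0 0 0 0 0
/-- the inverse of `hm` -/
def hinv : Aq := mkA (1/4) (-1/2) (-1/4) 0 (-1/4) 0 (-1/4) 0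
/-- the inverse of `star hm` -/
def hbinv : Aq := mkA (1/4) (-1/2) (1/4) 0 (1/4) 0 (1/4) 0

theorem hm_hinv : hm * hinv = 1 := by decide +kernel
theorem hinv_hm : hinv * hm = 1 := by decide +kernel
theorem shm_hbinv : star hm * hbinv = 1 := by decide +kernel
theorem hbinv_shm : hbinv * star hm = 1 := by decide +kernel

/-- membership in the left ideal `I h` -/
def inIh (x : Aq) : Bool := inI (x * hinv)
/-- membership in the left ideal `I h̄` -/
def inIhb (x : Aq) : Bool := inI (x * hbinv)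

theorem inIh_add {x y : Aq} (hx : inIh x = true) (hy : inIh y = true) : inIh (x + y) = true := by
  unfold inIh at *
  rw [add_mul]
  exact Rng.add_mem hx hy

theorem inIh_neg {x : Aq} (hx : inIh x = true) : inIh (-x) = true := by
  unfold inIh at *
  rw [show -x * hinv = -(x * hinv) from neg_mul x hinv]
  exact Rng.neg_mem hx

theorem inIh_sub {x y : Aq} (hx : inIh x = true) (hy : inIh y = true) : inIh (x - y) = true := by
  rw [sub_eq_add_neg]
  exact inIh_add hx (inIh_neg hy)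

theorem inIh_mul {a x : Aq} (ha : inI a = true) (hx : inIh x = true) : inIh (a * x) = true := by
  unfold inIh at *
  rw [mul_assoc]
  exact inI_mul ha hx

theorem inIhb_add {x y : Aq} (hx : inIhb x = true) (hy : inIhb y = true) :
    inIhb (x + y) = true := by
  unfold inIhb at *
  rw [add_mul]
  exact Rng.add_mem hx hy

theorem inIhb_mul {a x : Aq} (ha : inI a = true) (hx : inIhb x = true) : inIhb (a * x) = true := by
  unfold inIhb at *
  rw [mul_assoc]
  exact inI_mul ha hx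

theorem inI_of_inIh {x : Aq} (hx : inIh x = true) : inI x = true := by
  have h := inI_mul hx inI_hm
  rwa [mul_assoc, hinv_hm, mul_one] at h

theorem mem_leftIdeal_h (x : ℍ[ℝ]) :
    x ∈ Spor.leftIdeal Spor.icoH ↔ ∃ y : Aq, inIh y = true ∧ Phi y = x := by
  unfold Spor.leftIdeal
  rw [Set.mem_ofPred_eq, icosians_eq]
  constructor
  · rintro ⟨a, ⟨a', ha', rfl⟩, rfl⟩
    refine ⟨a' * hm, ?_, ?_⟩
    · unfold inIh
      rw [mul_assoc, hm_hinv, mul_one]
      exact (mem_Im_iff a').1 ha'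
    · rw [map_mul, Phi_hm]
  · rintro ⟨y, hy, rfl⟩
    refine ⟨Phi (y * hinv), ⟨y * hinv, (mem_Im_iff _).2 hy, rfl⟩, ?_⟩
    rw [← Phi_hm, ← map_mul, mul_assoc, hinv_hm, mul_one]

theorem mem_leftIdeal_hb (x : ℍ[ℝ]) :
    x ∈ Spor.leftIdeal (star Spor.icoH) ↔ ∃ y : Aq, inIhb y = true ∧ Phi y = x := by
  unfold Spor.leftIdeal
  rw [Set.mem_ofPred_eq, icosians_eq]
  constructor
  · rintro ⟨a, ⟨a', ha', rfl⟩, rfl⟩
    refine ⟨a' * star hm, ?_, ?_⟩
    · unfold inIhb
      rw [mul_assoc, shm_hbinv, mul_one]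
      exact (mem_Im_iff a').1 ha'
    · rw [map_mul, Phi_star, Phi_hm]
  · rintro ⟨y, hy, rfl⟩
    refine ⟨Phi (y * hbinv), ⟨y * hbinv, (mem_Im_iff _).2 hy, rfl⟩, ?_⟩
    rw [← Phi_hm, ← Phi_star, ← map_mul, mul_assoc, hbinv_shm, mul_one]

/-- vectors of the model -/
@[ext] structure V3 where
  x : Aq
  y : Aq
  z : Aq
deriving DecidableEq

instance : Add V3 := ⟨fun v w => ⟨v.x + w.x, v.y + w.y, v.z + w.z⟩⟩
instance : Neg V3 := ⟨fun v => ⟨-v.x, -v.y, -v.z⟩⟩
instance : Sub V3 := ⟨fun v w => ⟨v.x - w.x, v.y - w.y, v.z - w.z⟩⟩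
instance : Zero V3 := ⟨⟨0, 0, 0⟩⟩

theorem add_x (v w : V3) : (v + w).x = v.x + w.x := rfl
theorem add_y (v w : V3) : (v + w).y = v.y + w.y := rfl
theorem add_z (v w : V3) : (v + w).z = v.z + w.z := rfl
theorem sub_x (v w : V3) : (v - w).x = v.x - w.x := rfl
theorem sub_y (v w : V3) : (v - w).y = v.y - w.y := rfl
theorem sub_z (v w : V3) : (v - w).z = v.z - w.z := rfl
theorem neg_x (v : V3) : (-v).x = -v.x := rfl
theorem neg_y (v : V3) : (-v).y = -v.y := rfl
theorem neg_z (v : V3) : (-v).z = -v.z := rfl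

/-- left multiplication by a scalar -/
def lsm (a : Aq) (v : V3) : V3 := ⟨a * v.x, a * v.y, a * v.z⟩

theorem lsm_x (a : Aq) (v : V3) : (lsm a v).x = a * v.x := rfl
theorem lsm_y (a : Aq) (v : V3) : (lsm a v).y = a * v.y := rfl
theorem lsm_z (a : Aq) (v : V3) : (lsm a v).z = a * v.z := rfl

theorem lsm_lsm (a b : Aq) (v : V3) : lsm a (lsm b v) = lsm (a * b) v := by
  ext <;> simp only [lsm_x, lsm_y, lsm_z, mul_assoc]

theorem lsm_one (v : V3) : lsm 1 v = v := by
  ext <;> simp only [lsm_x, lsm_y, lsm_z, one_mul]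

/-- the Hermitian product of the model -/
def qipm (v w : V3) : Aq := v.x * star w.x + v.y * star w.y + v.z * star w.z

/-- the reflection of the model -/
def qreflm (r v : V3) : V3 := v - lsm (halfA * qipm v r) r

/-- membership test for the lattice -/
def inLam (v : V3) : Bool :=
  inI v.x && inI v.y && inI v.z && inIh (v.x - v.y) && inIh (v.y - v.z) &&
    inIhb (v.x + v.y + v.z)

theorem inLam_iff (v : V3) : inLam v = true ↔ inI v.x = true ∧ inI v.y = true ∧ inI v.z = true ∧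
    inIh (v.x - v.y) = true ∧ inIh (v.y - v.z) = true ∧ inIhb (v.x + v.y + v.z) = true := by
  unfold inLam
  simp only [Bool.and_eq_true, and_assoc]

/-- the vector of real quaternions of a model vector -/
noncomputable def P3 (v : V3) : Fin 3 → ℍ[ℝ] := ![Phi v.x, Phi v.y, Phi v.z]

theorem P3_zero (v : V3) : P3 v 0 = Phi v.x := rfl
theorem P3_one (v : V3) : P3 v 1 = Phi v.y := rfl
theorem P3_two (v : V3) : P3 v 2 = Phi v.z := rfl

theorem P3_injective : Function.Injective P3 := by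
  intro v w h
  have h0 := congrFun h 0
  have h1 := congrFun h 1
  have h2 := congrFun h 2
  rw [P3_zero, P3_zero] at h0
  rw [P3_one, P3_one] at h1
  rw [P3_two, P3_two] at h2
  exact V3.ext (Phi_injective h0) (Phi_injective h1) (Phi_injective h2)

theorem P3_add (v w : V3) : P3 (v + w) = P3 v + P3 w := by
  funext t
  fin_cases t
  · show Phi (v.x + w.x) = Phi v.x + Phi w.x
    exact map_add _ _ _
  · show Phi (v.y + w.y) = Phi v.y + Phi w.y
    exact map_add _ _ _
  · show Phi (v.z + w.z) = Phi v.z + Phi w.z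
    exact map_add _ _ _

theorem P3_sub (v w : V3) : P3 (v - w) = P3 v - P3 w := by
  funext t
  fin_cases t
  · show Phi (v.x - w.x) = Phi v.x - Phi w.x
    exact map_sub _ _ _
  · show Phi (v.y - w.y) = Phi v.y - Phi w.y
    exact map_sub _ _ _
  · show Phi (v.z - w.z) = Phi v.z - Phi w.z
    exact map_sub _ _ _

theorem P3_neg (v : V3) : P3 (-v) = -P3 v := by
  funext t
  fin_cases t
  · show Phi (-v.x) = -Phi v.x
    exact map_neg _ _
  · show Phi (-v.y) = -Phi v.y
    exact map_neg _ _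
  · show Phi (-v.z) = -Phi v.z
    exact map_neg _ _

theorem P3_lsm (a : Aq) (v : V3) : P3 (lsm a v) = fun t => Phi a * P3 v t := by
  funext t
  fin_cases t
  · show Phi (a * v.x) = Phi a * Phi v.x
    exact map_mul _ _ _
  · show Phi (a * v.y) = Phi a * Phi v.y
    exact map_mul _ _ _
  · show Phi (a * v.z) = Phi a * Phi v.z
    exact map_mul _ _ _

theorem qip_P3 (v w : V3) : Spor.qip (P3 v) (P3 w) = Phi (qipm v w) := by
  unfold Spor.qip qipm
  rw [Fin.sum_univ_three, P3_zero, P3_one, P3_two, P3_zero, P3_one, P3_two]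
  simp only [map_add, map_mul, Phi_star]

theorem Phi_halfA (q : ℍ[ℝ]) : Phi halfA * q = (1 / 2 : ℝ) • q := by
  rw [← Quaternion.coe_mul_eq_smul]
  congr 1
  rw [halfA, Phi_mkA]
  refine Quaternion.ext _ _ ?_ ?_ ?_ ?_
  · rw [Quaternion.re_coe]
    show ((1 / 2 : ℚ) : ℝ) + ((0 : ℚ) : ℝ) * Spor.tau = 1 / 2
    norm_num
  · rw [Quaternion.imI_coe]
    show ((0 : ℚ) : ℝ) + ((0 : ℚ) : ℝ) * Spor.tau = 0
    norm_num
  · rw [Quaternion.imJ_coe]
    show ((0 : ℚ) : ℝ) + ((0 : ℚ) : ℝ) * Spor.tau = 0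
    norm_num
  · rw [Quaternion.imK_coe]
    show ((0 : ℚ) : ℝ) + ((0 : ℚ) : ℝ) * Spor.tau = 0
    norm_num

theorem qrefl_P3 (r v : V3) : Spor.qrefl (P3 r) (P3 v) = P3 (qreflm r v) := by
  unfold Spor.qrefl qreflm
  rw [P3_sub, P3_lsm, qip_P3]
  funext t
  rw [Pi.sub_apply, map_mul, Phi_halfA]

theorem mem_icoLeech_iff (w : Fin 3 → ℍ[ℝ]) :
    w ∈ Spor.icoLeech ↔ ∃ v, inLam v = true ∧ P3 v = w := by
  unfold Spor.icoLeech
  rw [Set.mem_ofPred_eq]
  constructor
  · rintro ⟨h1, h2, h3, h4⟩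
    have hx := h1 0
    have hy := h1 1
    have hz := h1 2
    rw [icosians_eq] at hx hy hz
    obtain ⟨x, hx, hx'⟩ := hx
    obtain ⟨y, hy, hy'⟩ := hy
    obtain ⟨z, hz, hz'⟩ := hz
    rw [← hx', ← hy'] at h2
    rw [← hy', ← hz'] at h3
    rw [← hx', ← hy', ← hz'] at h4
    obtain ⟨a, ha, ha'⟩ := (mem_leftIdeal_h _).1 h2
    obtain ⟨b, hb, hb'⟩ := (mem_leftIdeal_h _).1 h3
    obtain ⟨c, hc, hc'⟩ := (mem_leftIdeal_hb _).1 h4
    have ea : a = x - y := Phi_injective (by rw [ha', map_sub])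
    have eb : b = y - z := Phi_injective (by rw [hb', map_sub])
    have ec : c = x + y + z := Phi_injective (by rw [hc', map_add, map_add])
    refine ⟨⟨x, y, z⟩, ?_, ?_⟩
    · rw [inLam_iff]
      exact ⟨(mem_Im_iff _).1 hx, (mem_Im_iff _).1 hy, (mem_Im_iff _).1 hz, ea ▸ ha, eb ▸ hb,
        ec ▸ hc⟩
    · funext t
      fin_cases t
      · exact hx'
      · exact hy'
      · exact hz'
  · rintro ⟨v, hv, rfl⟩
    rw [inLam_iff] at hv
    obtain ⟨hx, hy, hz, h2, h3, h4⟩ := hv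
    refine ⟨?_, ?_, ?_, ?_⟩
    · intro t
      rw [icosians_eq]
      fin_cases t
      · exact ⟨v.x, (mem_Im_iff _).2 hx, rfl⟩
      · exact ⟨v.y, (mem_Im_iff _).2 hy, rfl⟩
      · exact ⟨v.z, (mem_Im_iff _).2 hz, rfl⟩
    · rw [mem_leftIdeal_h]
      exact ⟨_, h2, by rw [map_sub]; rfl⟩
    · rw [mem_leftIdeal_h]
      exact ⟨_, h3, by rw [map_sub]; rfl⟩
    · rw [mem_leftIdeal_hb]
      exact ⟨_, h4, by rw [map_add, map_add]; rfl⟩

end Cfsg.Agent.Lib.Lead.J2
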