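import Cfsg.Agent.Lib.Lead.J2.C

set_option autoImplicit false
set_option linter.unusedSimpArgs false
set_option linter.unnecessarySeqFocus false
set_option linter.unreachableTactic false
set_option linter.unusedTactic false
set_option linter.unusedVariables false

/-!
# Norms of icosians and the icosians of norm 1 and 2
-/

namespace Cfsg.Agent.Lib.Lead.J2

open Quaternion

/-- the norm of a model quaternion, an element of `ℚ(τ)` -/
def nK (x : Aq) : Kq := normSq x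

theorem mul_star_eq (x : Aq) : x * star x = ((nK x : Kq) : Aq) := Quaternion.self_mul_star x
theorem star_mul_eq (x : Aq) : star x * x = ((nK x : Kq) : Aq) := Quaternion.star_mul_self x
theorem nK_mul (x y : Aq) : nK (x * y) = nK x * nK y := map_mul _ _ _
theorem nK_star (x : Aq) : nK (star x) = nK x := Quaternion.normSq_star x
theorem nK_one : nK 1 = 1 := map_one _

theorem nK_re (x : Aq) : (nK x).re = cc0 x ^ 2 + cc1 x ^ 2 + cc2 x ^ 2 + cc3 x ^ 2 + cc4 x ^ 2 +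
    cc5 x ^ 2 + cc6 x ^ 2 + cc7 x ^ 2 := by
  unfold nK
  rw [Quaternion.normSq_def']
  simp only [sq, QuadraticAlgebra.re_add, QuadraticAlgebra.re_mul, one_mul]
  unfold cc0 cc1 cc2 cc3 cc4 cc5 cc6 cc7
  ring

theorem nK_im (x : Aq) : (nK x).im = 2 * cc0 x * cc1 x + cc1 x ^ 2 + 2 * cc2 x * cc3 x + cc3 x ^ 2 +
    2 * cc4 x * cc5 x + cc5 x ^ 2 + 2 * cc6 x * cc7 x + cc7 x ^ 2 := by
  unfold nK
  rw [Quaternion.normSq_def']
  simp only [sq, QuadraticAlgebra.im_add, QuadraticAlgebra.im_mul, one_mul]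
  unfold cc0 cc1 cc2 cc3 cc4 cc5 cc6 cc7
  ring

theorem nK_eq_zero {x : Aq} (h : nK x = 0) : x = 0 := by
  have h1 := nK_re x
  rw [h] at h1
  have h2 : (0 : Kq).re = 0 := rfl
  rw [h2] at h1
  have p0 := sq_nonneg (cc0 x)
  have p1 := sq_nonneg (cc1 x)
  have p2 := sq_nonneg (cc2 x)
  have p3 := sq_nonneg (cc3 x)
  have p4 := sq_nonneg (cc4 x)
  have p5 := sq_nonneg (cc5 x)
  have p6 := sq_nonneg (cc6 x)
  have p7 := sq_nonneg (cc7 x)
  apply ext8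
  · show cc0 x = 0
    exact pow_eq_zero_iff (two_ne_zero) |>.1 (by linarith)
  · show cc1 x = 0
    exact pow_eq_zero_iff (two_ne_zero) |>.1 (by linarith)
  · show cc2 x = 0
    exact pow_eq_zero_iff (two_ne_zero) |>.1 (by linarith)
  · show cc3 x = 0
    exact pow_eq_zero_iff (two_ne_zero) |>.1 (by linarith)
  · show cc4 x = 0
    exact pow_eq_zero_iff (two_ne_zero) |>.1 (by linarith)
  · show cc5 x = 0
    exact pow_eq_zero_iff (two_ne_zero) |>.1 (by linarith)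
  · show cc6 x = 0
    exact pow_eq_zero_iff (two_ne_zero) |>.1 (by linarith)
  · show cc7 x = 0
    exact pow_eq_zero_iff (two_ne_zero) |>.1 (by linarith)

theorem nK_zero : nK 0 = 0 := map_zero _

theorem nK_re_nonneg (x : Aq) : 0 ≤ (nK x).re := by
  rw [nK_re]
  positivity

/-- rational forms of total positivity -/
theorem nK_upper (x : Aq) : 8 * (nK x).im ≤ 13 * (nK x).re := by
  rw [nK_re, nK_im]
  nlinarith [sq_nonneg (13 * cc0 x - 8 * cc1 x), sq_nonneg (cc1 x),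
    sq_nonneg (13 * cc2 x - 8 * cc3 x), sq_nonneg (cc3 x),
    sq_nonneg (13 * cc4 x - 8 * cc5 x), sq_nonneg (cc5 x),
    sq_nonneg (13 * cc6 x - 8 * cc7 x), sq_nonneg (cc7 x)]

theorem nK_lower (x : Aq) : -5 * (nK x).re ≤ 8 * (nK x).im := by
  rw [nK_re, nK_im]
  nlinarith [sq_nonneg (5 * cc0 x + 8 * cc1 x), sq_nonneg (cc1 x),
    sq_nonneg (5 * cc2 x + 8 * cc3 x), sq_nonneg (cc3 x),
    sq_nonneg (5 * cc4 x + 8 * cc5 x), sq_nonneg (cc5 x),
    sq_nonneg (5 * cc6 x + 8 * cc7 x), sq_nonneg (cc7 x)]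

theorem cc0_coe (k : Kq) : cc0 (k : Aq) = k.re := rfl
theorem cc1_coe (k : Kq) : cc1 (k : Aq) = k.im := rfl
theorem cc2_coe (k : Kq) : cc2 (k : Aq) = 0 := rfl
theorem cc3_coe (k : Kq) : cc3 (k : Aq) = 0 := rfl
theorem cc4_coe (k : Kq) : cc4 (k : Aq) = 0 := rfl
theorem cc5_coe (k : Kq) : cc5 (k : Aq) = 0 := rfl
theorem cc6_coe (k : Kq) : cc6 (k : Aq) = 0 := rfl
theorem cc7_coe (k : Kq) : cc7 (k : Aq) = 0 := rfl

/-- norms of icosians are integral -/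
theorem nK_int {x : Aq} (hx : inI x = true) : ∃ a b : ℤ, nK x = ⟨a, b⟩ := by
  have h1 : inI (x * star x) = true := inI_mul hx (inI_star hx)
  rw [mul_star_eq] at h1
  obtain ⟨k, hk⟩ := (inI_iff _).1 h1
  have e0 := congrArg cc0 hk
  have e1 := congrArg cc1 hk
  have e3 := congrArg cc3 hk
  have e4 := congrArg cc4 hk
  have e5 := congrArg cc5 hk
  have e6 := congrArg cc6 hk
  have e7 := congrArg cc7 hk
  rw [cc0_coe, span8, cc0_mkA] at e0
  rw [cc1_coe, span8, cc1_mkA] at e1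
  rw [cc3_coe, span8, cc3_mkA] at e3
  rw [cc4_coe, span8, cc4_mkA] at e4
  rw [cc5_coe, span8, cc5_mkA] at e5
  rw [cc6_coe, span8, cc6_mkA] at e6
  rw [cc7_coe, span8, cc7_mkA] at e7
  refine ⟨k 0 - k 3, k 3, ?_⟩
  apply QuadraticAlgebra.ext
  · show (nK x).re = ((k 0 - k 3 : ℤ) : ℚ)
    push_cast
    linarith
  · show (nK x).im = ((k 3 : ℤ) : ℚ)
    linarith

/-- an icosian has half-integral coordinates -/
theorem exists_ofN {x : Aq} (hx : inI x = true) : ∃ n0 n1 n2 n3 n4 n5 n6 n7 : ℤ,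
    x = mkA (n0 / 2) (n1 / 2) (n2 / 2) (n3 / 2) (n4 / 2) (n5 / 2) (n6 / 2) (n7 / 2) := by
  obtain ⟨k, rfl⟩ := (inI_iff _).1 hx
  refine ⟨2 * k 0 + k 2 - k 3 - k 4 - k 5 - k 6, k 3 + k 4 + k 6 - k 7,
    2 * k 1 + k 2 + k 3 + k 4 - k 5 - k 7, -k 2 + k 5 + k 6 + k 7, -k 7, -k 3 + k 4, k 6,
    k 2 + k 5, ?_⟩
  apply ext8 <;>
    simp only [span8, cc0_mkA, cc1_mkA, cc2_mkA, cc3_mkA, cc4_mkA, cc5_mkA, cc6_mkA, cc7_mkA] <;>
    push_cast <;> ring

/-- the range of the doubled coordinates of short icosians -/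
def R5 : List ℤ := [-2, -1, 0, 1, 2]

theorem mem_R5 {n : ℤ} (h : n * n ≤ 8) : n ∈ R5 := by
  have h1 : -2 ≤ n := by nlinarith
  have h2 : n ≤ 2 := by nlinarith
  unfold R5
  simp only [List.mem_cons, List.not_mem_nil, or_false]
  omega

/-- an icosian from its doubled coordinates -/
def ofN (n0 n1 n2 n3 n4 n5 n6 n7 : ℤ) : Aq :=
  mkA (n0 / 2) (n1 / 2) (n2 / 2) (n3 / 2) (n4 / 2) (n5 / 2) (n6 / 2) (n7 / 2)

theorem nK_re_ofN (n0 n1 n2 n3 n4 n5 n6 n7 : ℤ) : 4 * (nK (ofN n0 n1 n2 n3 n4 n5 n6 n7)).re =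
    ((n0 * n0 + n1 * n1 + n2 * n2 + n3 * n3 + n4 * n4 + n5 * n5 + n6 * n6 + n7 * n7 : ℤ) : ℚ) := by
  rw [nK_re]
  unfold ofN
  simp only [cc0_mkA, cc1_mkA, cc2_mkA, cc3_mkA, cc4_mkA, cc5_mkA, cc6_mkA, cc7_mkA]
  push_cast
  ring

end Cfsg.Agent.Lib.Lead.J2
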