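import Cfsg.Agent.Lib.Lead.J2.D

set_option autoImplicit false
set_option linter.unusedSimpArgs false
set_option linter.unnecessarySeqFocus false
set_option linter.unreachableTactic false
set_option linter.unusedTactic false
set_option linter.unusedVariables false

/-!
# The icosians of norm 1 and 2
-/

namespace Cfsg.Agent.Lib.Lead.J2

open Quaternion

/-- the parity conditions on the doubled coordinates of an icosian -/
def parZ (n0 n1 n2 n3 n4 n5 n6 n7 : ℤ) : Prop :=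
  (n4 - n1 - n2 - n3) % 2 = 0 ∧ (n5 - n0 - n1 - n2) % 2 = 0 ∧ (n6 - n0 - n1 - n3) % 2 = 0 ∧
    (n7 - n0 - n2 - n3) % 2 = 0

instance (n0 n1 n2 n3 n4 n5 n6 n7 : ℤ) : Decidable (parZ n0 n1 n2 n3 n4 n5 n6 n7) := by
  unfold parZ
  infer_instance

/-- four times the `τ`-part of the norm -/
def bZ (n0 n1 n2 n3 n4 n5 n6 n7 : ℤ) : ℤ :=
  2 * n0 * n1 + n1 * n1 + 2 * n2 * n3 + n3 * n3 + 2 * n4 * n5 + n5 * n5 + 2 * n6 * n7 + n7 * n7

theorem span8_eq_ofN (k : Fin 8 → ℤ) : span8 k =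
    ofN (2 * k 0 + k 2 - k 3 - k 4 - k 5 - k 6) (k 3 + k 4 + k 6 - k 7)
      (2 * k 1 + k 2 + k 3 + k 4 - k 5 - k 7) (-k 2 + k 5 + k 6 + k 7) (-k 7) (-k 3 + k 4) (k 6)
      (k 2 + k 5) := by
  unfold ofN
  apply ext8 <;>
    simp only [span8, cc0_mkA, cc1_mkA, cc2_mkA, cc3_mkA, cc4_mkA, cc5_mkA, cc6_mkA, cc7_mkA] <;>
    push_cast <;> ring

theorem half_inj {a b : ℤ} (h : ((a : ℚ) / 2) = ((b : ℚ) / 2)) : a = b := by
  have : (a : ℚ) = b := by linarith
  exact_mod_cast this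

theorem ofN_inj {n0 n1 n2 n3 n4 n5 n6 n7 m0 m1 m2 m3 m4 m5 m6 m7 : ℤ}
    (h : ofN n0 n1 n2 n3 n4 n5 n6 n7 = ofN m0 m1 m2 m3 m4 m5 m6 m7) :
    n0 = m0 ∧ n1 = m1 ∧ n2 = m2 ∧ n3 = m3 ∧ n4 = m4 ∧ n5 = m5 ∧ n6 = m6 ∧ n7 = m7 := by
  unfold ofN at h
  exact ⟨half_inj (by simpa only [cc0_mkA] using congrArg cc0 h),
    half_inj (by simpa only [cc1_mkA] using congrArg cc1 h),
    half_inj (by simpa only [cc2_mkA] using congrArg cc2 h),
    half_inj (by simpa only [cc3_mkA] using congrArg cc3 h),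
    half_inj (by simpa only [cc4_mkA] using congrArg cc4 h),
    half_inj (by simpa only [cc5_mkA] using congrArg cc5 h),
    half_inj (by simpa only [cc6_mkA] using congrArg cc6 h),
    half_inj (by simpa only [cc7_mkA] using congrArg cc7 h)⟩

theorem par_of_inI {n0 n1 n2 n3 n4 n5 n6 n7 : ℤ} (h : inI (ofN n0 n1 n2 n3 n4 n5 n6 n7) = true) :
    parZ n0 n1 n2 n3 n4 n5 n6 n7 := by
  obtain ⟨k, hk⟩ := (inI_iff _).1 h
  rw [span8_eq_ofN] at hk
  obtain ⟨f0, f1, f2, f3, f4, f5, f6, f7⟩ := ofN_inj hk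
  unfold parZ
  refine ⟨?_, ?_, ?_, ?_⟩ <;> omega

theorem nK_im_ofN (n0 n1 n2 n3 n4 n5 n6 n7 : ℤ) : 4 * (nK (ofN n0 n1 n2 n3 n4 n5 n6 n7)).im =
    ((bZ n0 n1 n2 n3 n4 n5 n6 n7 : ℤ) : ℚ) := by
  rw [nK_im]
  unfold ofN bZ
  simp only [cc0_mkA, cc1_mkA, cc2_mkA, cc3_mkA, cc4_mkA, cc5_mkA, cc6_mkA, cc7_mkA]
  push_cast
  ring

/-- the code of a tuple of doubled coordinates in `[-2, 2]` -/
def codeZ (n0 n1 n2 n3 n4 n5 n6 n7 : ℤ) : ℕ :=
  (n0 + 2).toNat + 5 * (n1 + 2).toNat + 25 * (n2 + 2).toNat + 125 * (n3 + 2).toNat +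
    625 * (n4 + 2).toNat + 3125 * (n5 + 2).toNat + 15625 * (n6 + 2).toNat + 78125 * (n7 + 2).toNat

/-- the digits of a code -/
def digZ (c i : ℕ) : ℤ := ((c / 5 ^ i % 5 : ℕ) : ℤ) - 2

/-- an icosian from the code of its doubled coordinates -/
def ofC (c : ℕ) : Aq :=
  ofN (digZ c 0) (digZ c 1) (digZ c 2) (digZ c 3) (digZ c 4) (digZ c 5) (digZ c 6) (digZ c 7)

theorem R5_bd {n : ℤ} (h : n ∈ R5) : -2 ≤ n ∧ n ≤ 2 := by
  simp only [R5, List.mem_cons, List.not_mem_nil, or_false] at h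
  omega

theorem digZ_codeZ {n0 n1 n2 n3 n4 n5 n6 n7 : ℤ} (h0 : -2 ≤ n0 ∧ n0 ≤ 2) (h1 : -2 ≤ n1 ∧ n1 ≤ 2)
    (h2 : -2 ≤ n2 ∧ n2 ≤ 2) (h3 : -2 ≤ n3 ∧ n3 ≤ 2) (h4 : -2 ≤ n4 ∧ n4 ≤ 2)
    (h5 : -2 ≤ n5 ∧ n5 ≤ 2) (h6 : -2 ≤ n6 ∧ n6 ≤ 2) (h7 : -2 ≤ n7 ∧ n7 ≤ 2) :
    digZ (codeZ n0 n1 n2 n3 n4 n5 n6 n7) 0 = n0 ∧ digZ (codeZ n0 n1 n2 n3 n4 n5 n6 n7) 1 = n1 ∧
    digZ (codeZ n0 n1 n2 n3 n4 n5 n6 n7) 2 = n2 ∧ digZ (codeZ n0 n1 n2 n3 n4 n5 n6 n7) 3 = n3 ∧
    digZ (codeZ n0 n1 n2 n3 n4 n5 n6 n7) 4 = n4 ∧ digZ (codeZ n0 n1 n2 n3 n4 n5 n6 n7) 5 = n5 ∧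
    digZ (codeZ n0 n1 n2 n3 n4 n5 n6 n7) 6 = n6 ∧ digZ (codeZ n0 n1 n2 n3 n4 n5 n6 n7) 7 = n7 := by
  obtain ⟨d0, hd0, hd0'⟩ : ∃ d : ℕ, (n0 + 2).toNat = d ∧ n0 = (d : ℤ) - 2 := ⟨_, rfl, by omega⟩
  obtain ⟨d1, hd1, hd1'⟩ : ∃ d : ℕ, (n1 + 2).toNat = d ∧ n1 = (d : ℤ) - 2 := ⟨_, rfl, by omega⟩
  obtain ⟨d2, hd2, hd2'⟩ : ∃ d : ℕ, (n2 + 2).toNat = d ∧ n2 = (d : ℤ) - 2 := ⟨_, rfl, by omega⟩
  obtain ⟨d3, hd3, hd3'⟩ : ∃ d : ℕ, (n3 + 2).toNat = d ∧ n3 = (d : ℤ) - 2 := ⟨_, rfl, by omega⟩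
  obtain ⟨d4, hd4, hd4'⟩ : ∃ d : ℕ, (n4 + 2).toNat = d ∧ n4 = (d : ℤ) - 2 := ⟨_, rfl, by omega⟩
  obtain ⟨d5, hd5, hd5'⟩ : ∃ d : ℕ, (n5 + 2).toNat = d ∧ n5 = (d : ℤ) - 2 := ⟨_, rfl, by omega⟩
  obtain ⟨d6, hd6, hd6'⟩ : ∃ d : ℕ, (n6 + 2).toNat = d ∧ n6 = (d : ℤ) - 2 := ⟨_, rfl, by omega⟩
  obtain ⟨d7, hd7, hd7'⟩ : ∃ d : ℕ, (n7 + 2).toNat = d ∧ n7 = (d : ℤ) - 2 := ⟨_, rfl, by omega⟩
  have b0 : d0 < 5 := by omega
  have b1 : d1 < 5 := by omega
  have b2 : d2 < 5 := by omega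
  have b3 : d3 < 5 := by omega
  have b4 : d4 < 5 := by omega
  have b5 : d5 < 5 := by omega
  have b6 : d6 < 5 := by omega
  have b7 : d7 < 5 := by omega
  unfold digZ codeZ
  rw [hd0, hd1, hd2, hd3, hd4, hd5, hd6, hd7, hd0', hd1', hd2', hd3', hd4', hd5', hd6', hd7']
  clear hd0 hd1 hd2 hd3 hd4 hd5 hd6 hd7 hd0' hd1' hd2' hd3' hd4' hd5' hd6' hd7' h0 h1 h2 h3 h4 h5
    h6 h7
  norm_num only
  refine ⟨?_, ?_, ?_, ?_, ?_, ?_, ?_, ?_⟩ <;> omega

theorem ofC_codeZ {n0 n1 n2 n3 n4 n5 n6 n7 : ℤ} (h0 : n0 ∈ R5) (h1 : n1 ∈ R5) (h2 : n2 ∈ R5)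
    (h3 : n3 ∈ R5) (h4 : n4 ∈ R5) (h5 : n5 ∈ R5) (h6 : n6 ∈ R5) (h7 : n7 ∈ R5) :
    ofC (codeZ n0 n1 n2 n3 n4 n5 n6 n7) = ofN n0 n1 n2 n3 n4 n5 n6 n7 := by
  obtain ⟨e0, e1, e2, e3, e4, e5, e6, e7⟩ := digZ_codeZ (R5_bd h0) (R5_bd h1) (R5_bd h2)
    (R5_bd h3) (R5_bd h4) (R5_bd h5) (R5_bd h6) (R5_bd h7)
  unfold ofC
  rw [e0, e1, e2, e3, e4, e5, e6, e7]

/-- codes of the icosians of norm 1 -/
def S1C : List ℕ := [
  195310, 179036, 210286, 180286, 211536, 117286, 273536, 197686, 192686, 254686, 129686, 260936,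
  135936, 197936, 192936, 117086, 273336, 179086, 210336, 180336, 211586, 192166, 198416, 179566,
  210816, 116566, 272816, 117816, 274066, 179816, 211066, 192216, 198466, 257782, 132782, 194782,
  196032, 182182, 213432, 177182, 208432, 194582, 195832, 257832, 132832, 195262, 119662, 275912,
  114662, 270912, 176662, 207912, 182912, 214162, 257062, 132062, 258312, 133312, 194062, 164062,
  226562, 196562, 257312, 132312, 258562, 133562, 176462, 207712, 182712, 213962, 119712, 275962,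
  114712, 270962, 195362, 257792, 132792, 194792, 196042, 182192, 213442, 177192, 208442, 194592,
  195842, 257842, 132842, 192158, 198408, 179558, 210808, 116558, 272808, 117808, 274058, 179808,
  211058, 192208, 198458, 179038, 210288, 180288, 211538, 117288, 273538, 197688, 192688, 254688,
  129688, 260938, 135938, 197938, 192938, 117088, 273338, 179088, 210338, 180338, 211588, 195314
]

/-- codes of the icosians of norm 2 -/
def S2C : List ℕ := [
  195260, 119660, 275910, 114660, 270910, 176660, 207910, 182910, 214160, 257060, 132060, 258310,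
  133310, 194060, 164060, 226560, 196560, 257310, 132310, 258560, 133560, 176460, 207710, 182710,
  213960, 119710, 275960, 114710, 270960, 195360, 194540, 195790, 101540, 289040, 113940, 270190,
  120190, 276440, 175940, 207190, 183440, 214690, 114190, 270440, 120440, 276690, 101590, 289090,
  194840, 196090, 179756, 211006, 197156, 193406, 260406, 135406, 255406, 130406, 241556, 147806,
  242806, 149056, 260206, 135206, 255206, 130206, 197206, 193456, 179606, 210856, 254636, 129636,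
  260886, 135886, 191636, 199136, 242036, 148286, 335286, 54036, 185286, 216536, 174036, 205286,
  336536, 55286, 116036, 272286, 118536, 274786, 179286, 210536, 180536, 211786, 166436, 228936,
  161436, 223936, 103436, 290936, 99686, 287186, 166686, 229186, 161686, 224186, 178836, 210086,
  180086, 211336, 115836, 272086, 118336, 274586, 335336, 54086, 185336, 216586, 174086, 205336,
  336586, 55336, 242336, 148586, 191486, 198986, 254736, 129736, 260986, 135986, 116516, 272766,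
  117766, 274016, 260166, 135166, 255166, 130166, 160916, 223416, 167166, 229666, 254166, 129166,
  104166, 291666, 99166, 286666, 261666, 136666, 192416, 198666, 178316, 209566, 335816, 54566,
  180816, 212066, 122816, 279066, 111566, 267816, 178566, 209816, 336066, 54816, 181066, 212316,
  191966, 198216, 253966, 128966, 103966, 291466, 98966, 286466, 261466, 136466, 160966, 223466,
  167216, 229716, 260466, 135466, 255466, 130466, 116616, 272866, 117866, 274116, 179046, 210296,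
  180296, 211546, 117296, 273546, 197696, 192696, 254696, 129696, 260946, 135946, 197946, 192946,
  117096, 273346, 179096, 210346, 180346, 211596, 182132, 213382, 177132, 208382, 114132, 270382,
  120382, 276632, 256532, 131532, 259032, 134032, 163532, 226032, 201032, 189782, 164782, 227282,
  258032, 133032, 118932, 275182, 238932, 145182, 245182, 151432, 115182, 271432, 338432, 57182,
  333432, 52182, 119182, 275432, 239182, 145432, 245432, 151682, 115432, 271682, 257582, 132582,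
  163332, 225832, 200832, 189582, 164582, 227082, 256582, 131582, 259082, 134082, 113982, 270232,
  120232, 276482, 182232, 213482, 177232, 208482, 194012, 164012, 226512, 196512, 101012, 288512,
  102262, 289762, 181412, 212662, 177662, 208912, 238412, 144662, 245912, 152162, 332912, 51662,
  339162, 57912, 119912, 276162, 114912, 271162, 263312, 138312, 252062, 127062, 162812, 225312,
  165312, 227812, 263562, 138562, 252312, 127312, 119462, 275712, 114462, 270712, 332712, 51462,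
  338962, 57712, 238462, 144712, 245962, 152212, 181712, 212962, 177962, 209212, 100862, 288362,
  102112, 289612, 194112, 164112, 226612, 196612, 182142, 213392, 177142, 208392, 114142, 270392,
  120392, 276642, 256542, 131542, 259042, 134042, 163542, 226042, 201042, 189792, 164792, 227292,
  258042, 133042, 118942, 275192, 238942, 145192, 245192, 151442, 115192, 271442, 338442, 57192,
  333442, 52192, 119192, 275442, 239192, 145442, 245442, 151692, 115442, 271692, 257592, 132592,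
  163342, 225842, 200842, 189592, 164592, 227092, 256592, 131592, 259092, 134092, 113992, 270242,
  120242, 276492, 182242, 213492, 177242, 208492, 179028, 210278, 180278, 211528, 117278, 273528,
  197678, 192678, 254678, 129678, 260928, 135928, 197928, 192928, 117078, 273328, 179078, 210328,
  180328, 211578, 116508, 272758, 117758, 274008, 260158, 135158, 255158, 130158, 160908, 223408,
  167158, 229658, 254158, 129158, 104158, 291658, 99158, 286658, 261658, 136658, 192408, 198658,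
  178308, 209558, 335808, 54558, 180808, 212058, 122808, 279058, 111558, 267808, 178558, 209808,
  336058, 54808, 181058, 212308, 191958, 198208, 253958, 128958, 103958, 291458, 98958, 286458,
  261458, 136458, 160958, 223458, 167208, 229708, 260458, 135458, 255458, 130458, 116608, 272858,
  117858, 274108, 254638, 129638, 260888, 135888, 191638, 199138, 242038, 148288, 335288, 54038,
  185288, 216538, 174038, 205288, 336538, 55288, 116038, 272288, 118538, 274788, 179288, 210538,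
  180538, 211788, 166438, 228938, 161438, 223938, 103438, 290938, 99688, 287188, 166688, 229188,
  161688, 224188, 178838, 210088, 180088, 211338, 115838, 272088, 118338, 274588, 335338, 54088,
  185338, 216588, 174088, 205338, 336588, 55338, 242338, 148588, 191488, 198988, 254738, 129738,
  260988, 135988, 179768, 211018, 197168, 193418, 260418, 135418, 255418, 130418, 241568, 147818,
  242818, 149068, 260218, 135218, 255218, 130218, 197218, 193468, 179618, 210868, 194534, 195784,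
  101534, 289034, 113934, 270184, 120184, 276434, 175934, 207184, 183434, 214684, 114184, 270434,
  120434, 276684, 101584, 289084, 194834, 196084, 195264, 119664, 275914, 114664, 270914, 176664,
  207914, 182914, 214164, 257064, 132064, 258314, 133314, 194064, 164064, 226564, 196564, 257314,
  132314, 258564, 133564, 176464, 207714, 182714, 213964, 119714, 275964, 114714, 270964, 195364
]

/-- the icosians of norm 1 -/
def S1 : List Aq := S1C.map ofC
/-- the icosians of norm 2 -/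
def S2 : List Aq := S2C.map ofC

theorem short_complete (m : ℤ) (hm : m ≤ 8) (c : Kq) (hc : 4 * c.re = m) (hc' : c.im = 0)
    (LZ : List ℕ)
    (henum : ∀ n0 ∈ R5, ∀ n1 ∈ R5, ∀ n2 ∈ R5, n0 * n0 + n1 * n1 + n2 * n2 ≤ m → ∀ n3 ∈ R5,
      n0 * n0 + n1 * n1 + n2 * n2 + n3 * n3 ≤ m → ∀ n4 ∈ R5,
      n0 * n0 + n1 * n1 + n2 * n2 + n3 * n3 + n4 * n4 ≤ m → ∀ n5 ∈ R5,
      n0 * n0 + n1 * n1 + n2 * n2 + n3 * n3 + n4 * n4 + n5 * n5 ≤ m → ∀ n6 ∈ R5,
      n0 * n0 + n1 * n1 + n2 * n2 + n3 * n3 + n4 * n4 + n5 * n5 + n6 * n6 ≤ m → ∀ n7 ∈ R5,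
      n0 * n0 + n1 * n1 + n2 * n2 + n3 * n3 + n4 * n4 + n5 * n5 + n6 * n6 + n7 * n7 = m →
      parZ n0 n1 n2 n3 n4 n5 n6 n7 → bZ n0 n1 n2 n3 n4 n5 n6 n7 = 0 →
      codeZ n0 n1 n2 n3 n4 n5 n6 n7 ∈ LZ)
    {x : Aq} (hx : inI x = true) (hn : nK x = c) : x ∈ LZ.map ofC := by
  obtain ⟨n0, n1, n2, n3, n4, n5, n6, n7, rfl⟩ := exists_ofN hx
  have h1 := nK_re_ofN n0 n1 n2 n3 n4 n5 n6 n7
  have h1' := nK_im_ofN n0 n1 n2 n3 n4 n5 n6 n7
  change nK (ofN n0 n1 n2 n3 n4 n5 n6 n7) = c at hn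
  change inI (ofN n0 n1 n2 n3 n4 n5 n6 n7) = true at hx
  rw [hn, hc] at h1
  rw [hn, hc', mul_zero] at h1'
  have h2 : n0 * n0 + n1 * n1 + n2 * n2 + n3 * n3 + n4 * n4 + n5 * n5 + n6 * n6 + n7 * n7 = m := by
    exact_mod_cast h1.symm
  have h3 : bZ n0 n1 n2 n3 n4 n5 n6 n7 = 0 := by exact_mod_cast h1'.symm
  have q0 := mul_self_nonneg n0
  have q1 := mul_self_nonneg n1
  have q2 := mul_self_nonneg n2
  have q3 := mul_self_nonneg n3
  have q4 := mul_self_nonneg n4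
  have q5 := mul_self_nonneg n5
  have q6 := mul_self_nonneg n6
  have q7 := mul_self_nonneg n7
  have r0 : n0 ∈ R5 := mem_R5 (by linarith)
  have r1 : n1 ∈ R5 := mem_R5 (by linarith)
  have r2 : n2 ∈ R5 := mem_R5 (by linarith)
  have r3 : n3 ∈ R5 := mem_R5 (by linarith)
  have r4 : n4 ∈ R5 := mem_R5 (by linarith)
  have r5 : n5 ∈ R5 := mem_R5 (by linarith)
  have r6 : n6 ∈ R5 := mem_R5 (by linarith)
  have r7 : n7 ∈ R5 := mem_R5 (by linarith)
  have := henum n0 r0 n1 r1 n2 r2 (by linarith) n3 r3 (by linarith) n4 r4 (by linarith)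
    n5 r5 (by linarith) n6 r6 (by linarith) n7 r7 h2 (par_of_inI hx) h3
  exact List.mem_map.2 ⟨_, this, ofC_codeZ r0 r1 r2 r3 r4 r5 r6 r7⟩

end Cfsg.Agent.Lib.Lead.J2
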