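import Cfsg.Agent.Lib.Lead.J2.D2

set_option autoImplicit false
set_option linter.unusedSimpArgs false
set_option linter.unnecessarySeqFocus false
set_option linter.unreachableTactic false
set_option linter.unusedTactic false
set_option linter.unusedVariables false

/-!
# The icosians of norm 1 and 2
-/

namespace Cfsg.Agent.Lib.Lead.J2

open Quaternion

/-- the enumeration of the short icosians with a given first doubled coordinate -/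
def enumTail (m : ℤ) (L : List ℕ) (n0 : ℤ) : Prop :=
  ∀ n1 ∈ R5, ∀ n2 ∈ R5, n0 * n0 + n1 * n1 + n2 * n2 ≤ m → ∀ n3 ∈ R5, n0 * n0 + n1 * n1 + n2 * n2 + n3 * n3 ≤ m → ∀ n4 ∈ R5, n0 * n0 + n1 * n1 + n2 * n2 + n3 * n3 + n4 * n4 ≤ m → ∀ n5 ∈ R5, n0 * n0 + n1 * n1 + n2 * n2 + n3 * n3 + n4 * n4 + n5 * n5 ≤ m → ∀ n6 ∈ R5, n0 * n0 + n1 * n1 + n2 * n2 + n3 * n3 + n4 * n4 + n5 * n5 + n6 * n6 ≤ m → ∀ n7 ∈ R5,
    n0 * n0 + n1 * n1 + n2 * n2 + n3 * n3 + n4 * n4 + n5 * n5 + n6 * n6 + n7 * n7 = m →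
    parZ n0 n1 n2 n3 n4 n5 n6 n7 → bZ n0 n1 n2 n3 n4 n5 n6 n7 = 0 →
    codeZ n0 n1 n2 n3 n4 n5 n6 n7 ∈ L

instance (m : ℤ) (L : List ℕ) (n0 : ℤ) : Decidable (enumTail m L n0) := by
  unfold enumTail
  infer_instance

set_option maxRecDepth 100000 in
set_option maxHeartbeats 0 in
theorem S1Z_enum_m2 : enumTail 4 S1C (-2) := by decide +kernel

set_option maxRecDepth 100000 in
set_option maxHeartbeats 0 in
theorem S1Z_enum_m1 : enumTail 4 S1C (-1) := by decide +kernel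

set_option maxRecDepth 100000 in
set_option maxHeartbeats 0 in
theorem S1Z_enum_z : enumTail 4 S1C (0) := by decide +kernel

set_option maxRecDepth 100000 in
set_option maxHeartbeats 0 in
theorem S1Z_enum_p1 : enumTail 4 S1C (1) := by decide +kernel

set_option maxRecDepth 100000 in
set_option maxHeartbeats 0 in
theorem S1Z_enum_p2 : enumTail 4 S1C (2) := by decide +kernel

theorem S1Z_enum : ∀ n0 ∈ R5, ∀ n1 ∈ R5, ∀ n2 ∈ R5, n0 * n0 + n1 * n1 + n2 * n2 ≤ 4 → ∀ n3 ∈ R5, n0 * n0 + n1 * n1 + n2 * n2 + n3 * n3 ≤ 4 → ∀ n4 ∈ R5, n0 * n0 + n1 * n1 + n2 * n2 + n3 * n3 + n4 * n4 ≤ 4 → ∀ n5 ∈ R5, n0 * n0 + n1 * n1 + n2 * n2 + n3 * n3 + n4 * n4 + n5 * n5 ≤ 4 → ∀ n6 ∈ R5, n0 * n0 + n1 * n1 + n2 * n2 + n3 * n3 + n4 * n4 + n5 * n5 + n6 * n6 ≤ 4 → ∀ n7 ∈ R5,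
    n0 * n0 + n1 * n1 + n2 * n2 + n3 * n3 + n4 * n4 + n5 * n5 + n6 * n6 + n7 * n7 = 4 →
    parZ n0 n1 n2 n3 n4 n5 n6 n7 → bZ n0 n1 n2 n3 n4 n5 n6 n7 = 0 →
    codeZ n0 n1 n2 n3 n4 n5 n6 n7 ∈ S1C := by
  intro n0 h0
  simp only [R5, List.mem_cons, List.not_mem_nil, or_false] at h0
  rcases h0 with rfl | rfl | rfl | rfl | rfl
  · exact S1Z_enum_m2
  · exact S1Z_enum_m1
  · exact S1Z_enum_z
  · exact S1Z_enum_p1
  · exact S1Z_enum_p2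

set_option maxRecDepth 100000 in
set_option maxHeartbeats 0 in
theorem S2Z_enum_m2 : enumTail 8 S2C (-2) := by decide +kernel

set_option maxRecDepth 100000 in
set_option maxHeartbeats 0 in
theorem S2Z_enum_m1 : enumTail 8 S2C (-1) := by decide +kernel

set_option maxRecDepth 100000 in
set_option maxHeartbeats 0 in
theorem S2Z_enum_z : enumTail 8 S2C (0) := by decide +kernel

set_option maxRecDepth 100000 in
set_option maxHeartbeats 0 in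
theorem S2Z_enum_p1 : enumTail 8 S2C (1) := by decide +kernel

set_option maxRecDepth 100000 in
set_option maxHeartbeats 0 in
theorem S2Z_enum_p2 : enumTail 8 S2C (2) := by decide +kernel

theorem S2Z_enum : ∀ n0 ∈ R5, ∀ n1 ∈ R5, ∀ n2 ∈ R5, n0 * n0 + n1 * n1 + n2 * n2 ≤ 8 → ∀ n3 ∈ R5, n0 * n0 + n1 * n1 + n2 * n2 + n3 * n3 ≤ 8 → ∀ n4 ∈ R5, n0 * n0 + n1 * n1 + n2 * n2 + n3 * n3 + n4 * n4 ≤ 8 → ∀ n5 ∈ R5, n0 * n0 + n1 * n1 + n2 * n2 + n3 * n3 + n4 * n4 + n5 * n5 ≤ 8 → ∀ n6 ∈ R5, n0 * n0 + n1 * n1 + n2 * n2 + n3 * n3 + n4 * n4 + n5 * n5 + n6 * n6 ≤ 8 → ∀ n7 ∈ R5,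
    n0 * n0 + n1 * n1 + n2 * n2 + n3 * n3 + n4 * n4 + n5 * n5 + n6 * n6 + n7 * n7 = 8 →
    parZ n0 n1 n2 n3 n4 n5 n6 n7 → bZ n0 n1 n2 n3 n4 n5 n6 n7 = 0 →
    codeZ n0 n1 n2 n3 n4 n5 n6 n7 ∈ S2C := by
  intro n0 h0
  simp only [R5, List.mem_cons, List.not_mem_nil, or_false] at h0
  rcases h0 with rfl | rfl | rfl | rfl | rfl
  · exact S2Z_enum_m2
  · exact S2Z_enum_m1
  · exact S2Z_enum_z
  · exact S2Z_enum_p1
  · exact S2Z_enum_p2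

theorem S1_complete {x : Aq} (hx : inI x = true) (hn : nK x = 1) : x ∈ S1 :=
  short_complete 4 (by norm_num) 1 (by show (4 : ℚ) * 1 = ((4 : ℤ) : ℚ); norm_num) rfl S1C
    S1Z_enum hx hn

theorem S2_complete {x : Aq} (hx : inI x = true) (hn : nK x = 2) : x ∈ S2 :=
  short_complete 8 (by norm_num) 2 (by show (4 : ℚ) * 2 = ((8 : ℤ) : ℚ); norm_num) rfl S2C
    S2Z_enum hx hn

end Cfsg.Agent.Lib.Lead.J2
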