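import Cfsg.Agent.Lib.Lead.J2.D2

set_option autoImplicit false
set_option linter.unusedSimpArgs false
set_option linter.unnecessarySeqFocus false
set_option linter.unreachableTactic false
set_option linter.unusedTactic false
set_option linter.unusedVariables false

/-!
# The icosians of norm 1 and 2: the lists are correct
-/

namespace Cfsg.Agent.Lib.Lead.J2

open Quaternion

theorem forall_take_drop {α : Type} (P : α → Prop) (l : List α) (n : ℕ)
    (h1 : ∀ e ∈ l.take n, P e) (h2 : ∀ e ∈ l.drop n, P e) : ∀ e ∈ l, P e := by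
  intro e he
  rw [← List.take_append_drop n l, List.mem_append] at he
  rcases he with he | he
  · exact h1 e he
  · exact h2 e he

set_option maxRecDepth 100000 in
set_option maxHeartbeats 0 in
theorem S1_spec : ∀ x ∈ S1, inI x = true ∧ nK x = 1 := by decide +kernel

set_option maxRecDepth 100000 in
set_option maxHeartbeats 0 in
theorem S2C_spec0 : ∀ c ∈ (S2C.drop 0).take 150, inI (ofC c) = true ∧ nK (ofC c) = 2 := by
  decide +kernel

set_option maxRecDepth 100000 in
set_option maxHeartbeats 0 in
theorem S2C_spec1 : ∀ c ∈ (S2C.drop 150).take 150, inI (ofC c) = true ∧ nK (ofC c) = 2 := by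
  decide +kernel

set_option maxRecDepth 100000 in
set_option maxHeartbeats 0 in
theorem S2C_spec2 : ∀ c ∈ (S2C.drop 300).take 150, inI (ofC c) = true ∧ nK (ofC c) = 2 := by
  decide +kernel

set_option maxRecDepth 100000 in
set_option maxHeartbeats 0 in
theorem S2C_spec3 : ∀ c ∈ S2C.drop 450, inI (ofC c) = true ∧ nK (ofC c) = 2 := by
  decide +kernel

theorem S2C_spec : ∀ c ∈ S2C, inI (ofC c) = true ∧ nK (ofC c) = 2 := by
  have h3 := S2C_spec3
  have h2 : ∀ c ∈ S2C.drop 300, inI (ofC c) = true ∧ nK (ofC c) = 2 := by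
    apply forall_take_drop _ _ 150 S2C_spec2
    rw [List.drop_drop]
    exact h3
  have h1 : ∀ c ∈ S2C.drop 150, inI (ofC c) = true ∧ nK (ofC c) = 2 := by
    apply forall_take_drop _ _ 150 S2C_spec1
    rw [List.drop_drop]
    exact h2
  have h0 : ∀ c ∈ S2C.drop 0, inI (ofC c) = true ∧ nK (ofC c) = 2 := by
    apply forall_take_drop _ _ 150 S2C_spec0
    rw [List.drop_drop]
    exact h1
  exact h0

theorem S2_spec : ∀ x ∈ S2, inI x = true ∧ nK x = 2 := by
  intro x hx
  obtain ⟨c, hc, rfl⟩ := List.mem_map.1 hx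
  exact S2C_spec c hc

set_option maxRecDepth 100000 in
set_option maxHeartbeats 0 in
theorem S1_nodup : S1.Nodup := by decide +kernel

theorem S1_length : S1.length = 120 := by
  unfold S1
  rw [List.length_map]
  rfl

end Cfsg.Agent.Lib.Lead.J2
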