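import Cfsg.Agent.Lib.Lead.J2.D3
import Cfsg.Agent.Lib.Lead.J2.D4

set_option autoImplicit false
set_option linter.unusedSimpArgs false
set_option linter.unnecessarySeqFocus false
set_option linter.unreachableTactic false
set_option linter.unusedTactic false
set_option linter.unusedVariables false

/-!
# Classification of the minimal vectors of the icosian Leech lattice
-/

namespace Cfsg.Agent.Lib.Lead.J2

open Quaternion

theorem inI_add {x y : Aq} (hx : inI x = true) (hy : inI y = true) : inI (x + y) = true :=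
  (mem_Rng _).1 (Rng.add_mem ((mem_Rng _).2 hx) ((mem_Rng _).2 hy))

theorem inI_neg {x : Aq} (hx : inI x = true) : inI (-x) = true :=
  (mem_Rng _).1 (Rng.neg_mem ((mem_Rng _).2 hx))

theorem inI_sub {x y : Aq} (hx : inI x = true) (hy : inI y = true) : inI (x - y) = true :=
  (mem_Rng _).1 (Rng.sub_mem ((mem_Rng _).2 hx) ((mem_Rng _).2 hy))

theorem inI_zero : inI 0 = true := (mem_Rng _).1 Rng.zero_mem

/-- the norm of a vector -/
def nV (v : V3) : Kq := nK v.x + nK v.y + nK v.z

theorem qipm_self (v : V3) : qipm v v = ((nV v : Kq) : Aq) := by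
  unfold qipm nV
  rw [mul_star_eq, mul_star_eq, mul_star_eq, Quaternion.coe_add, Quaternion.coe_add]

/-- a vector with a distinguished coordinate -/
def ins (t : Fin 3) (p q r : Aq) : V3 :=
  match t with
  | 0 => ⟨p, q, r⟩
  | 1 => ⟨q, p, r⟩
  | 2 => ⟨q, r, p⟩

theorem ins_zero (p q r : Aq) : ins 0 p q r = ⟨p, q, r⟩ := rfl
theorem ins_one (p q r : Aq) : ins 1 p q r = ⟨q, p, r⟩ := rfl
theorem ins_two (p q r : Aq) : ins 2 p q r = ⟨q, r, p⟩ := rfl

theorem lsm_ins (a : Aq) (t : Fin 3) (p q r : Aq) :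
    lsm a (ins t p q r) = ins t (a * p) (a * q) (a * r) := by
  fin_cases t <;> rfl

theorem nV_ins (t : Fin 3) (p q r : Aq) : nV (ins t p q r) = nK p + nK q + nK r := by
  fin_cases t
  · rfl
  · show nK q + nK p + nK r = _
    ring
  · show nK q + nK r + nK p = _
    ring

theorem inIhb_neg {x : Aq} (hx : inIhb x = true) : inIhb (-x) = true := by
  unfold inIhb at hx ⊢
  rw [show (-x) * hbinv = -(x * hbinv) from neg_mul x hbinv]
  exact inI_neg hx

theorem inLam_ins (t : Fin 3) (p q r : Aq) : inLam (ins t p q r) = true ↔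
    inI p = true ∧ inI q = true ∧ inI r = true ∧ inIh (p - q) = true ∧ inIh (p - r) = true ∧
      inIhb (p + q + r) = true := by
  rw [inLam_iff]
  fin_cases t
  · show inI p = true ∧ inI q = true ∧ inI r = true ∧ inIh (p - q) = true ∧ inIh (q - r) = true ∧
      inIhb (p + q + r) = true ↔ _
    constructor
    · rintro ⟨h1, h2, h3, h4, h5, h6⟩
      refine ⟨h1, h2, h3, h4, ?_, h6⟩
      have := inIh_add h4 h5
      rwa [sub_add_sub_cancel] at this
    · rintro ⟨h1, h2, h3, h4, h5, h6⟩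
      refine ⟨h1, h2, h3, h4, ?_, h6⟩
      have := inIh_sub h5 h4
      rwa [sub_sub_sub_cancel_left] at this
  · show inI q = true ∧ inI p = true ∧ inI r = true ∧ inIh (q - p) = true ∧ inIh (p - r) = true ∧
      inIhb (q + p + r) = true ↔ _
    constructor
    · rintro ⟨h1, h2, h3, h4, h5, h6⟩
      refine ⟨h2, h1, h3, ?_, h5, ?_⟩
      · have := inIh_neg h4
        rwa [neg_sub] at this
      · rwa [add_comm p q]
    · rintro ⟨h1, h2, h3, h4, h5, h6⟩
      refine ⟨h2, h1, h3, ?_, h5, ?_⟩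
      · have := inIh_neg h4
        rwa [neg_sub] at this
      · rwa [add_comm q p]
  · show inI q = true ∧ inI r = true ∧ inI p = true ∧ inIh (q - r) = true ∧ inIh (r - p) = true ∧
      inIhb (q + r + p) = true ↔ _
    constructor
    · rintro ⟨h1, h2, h3, h4, h5, h6⟩
      refine ⟨h3, h1, h2, ?_, ?_, ?_⟩
      · have := inIh_neg (inIh_add h4 h5)
        rwa [sub_add_sub_cancel, neg_sub] at this
      · have := inIh_neg h5
        rwa [neg_sub] at this
      · have e : p + q + r = q + r + p := by abel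
        rwa [e]
    · rintro ⟨h1, h2, h3, h4, h5, h6⟩
      refine ⟨h2, h3, h1, ?_, ?_, ?_⟩
      · have := inIh_sub h5 h4
        rwa [sub_sub_sub_cancel_left] at this
      · have := inIh_neg h5
        rwa [neg_sub] at this
      · have e : q + r + p = p + q + r := by abel
        rwa [e]

theorem inLam_lsm {a : Aq} {v : V3} (ha : inI a = true) (hv : inLam v = true) :
    inLam (lsm a v) = true := by
  rw [inLam_iff] at hv ⊢
  obtain ⟨h1, h2, h3, h4, h5, h6⟩ := hv
  refine ⟨inI_mul ha h1, inI_mul ha h2, inI_mul ha h3, ?_, ?_, ?_⟩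
  · rw [lsm_x, lsm_y, ← mul_sub]
    exact inIh_mul ha h4
  · rw [lsm_y, lsm_z, ← mul_sub]
    exact inIh_mul ha h5
  · rw [lsm_x, lsm_y, lsm_z, ← mul_add, ← mul_add]
    exact inIhb_mul ha h6

theorem inLam_add {v w : V3} (hv : inLam v = true) (hw : inLam w = true) :
    inLam (v + w) = true := by
  rw [inLam_iff] at hv hw ⊢
  obtain ⟨h1, h2, h3, h4, h5, h6⟩ := hv
  obtain ⟨k1, k2, k3, k4, k5, k6⟩ := hw
  refine ⟨inI_add h1 k1, inI_add h2 k2, inI_add h3 k3, ?_, ?_, ?_⟩
  · have := inIh_add h4 k4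
    rw [add_x, add_y]
    have e : v.x + w.x - (v.y + w.y) = v.x - v.y + (w.x - w.y) := by abel
    rwa [e]
  · have := inIh_add h5 k5
    rw [add_y, add_z]
    have e : v.y + w.y - (v.z + w.z) = v.y - v.z + (w.y - w.z) := by abel
    rwa [e]
  · have := inIhb_add h6 k6
    rw [add_x, add_y, add_z]
    have e : v.x + w.x + (v.y + w.y) + (v.z + w.z) = v.x + v.y + v.z + (w.x + w.y + w.z) := by abel
    rwa [e]

theorem inLam_neg {v : V3} (hv : inLam v = true) : inLam (-v) = true := by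
  rw [inLam_iff] at hv ⊢
  obtain ⟨h1, h2, h3, h4, h5, h6⟩ := hv
  refine ⟨inI_neg h1, inI_neg h2, inI_neg h3, ?_, ?_, ?_⟩
  · have := inIh_neg h4
    rw [neg_x, neg_y]
    have e : -v.x - -v.y = -(v.x - v.y) := by abel
    rwa [e]
  · have := inIh_neg h5
    rw [neg_y, neg_z]
    have e : -v.y - -v.z = -(v.y - v.z) := by abel
    rwa [e]
  · have := inIhb_neg h6
    rw [neg_x, neg_y, neg_z]
    have e : -v.x + -v.y + -v.z = -(v.x + v.y + v.z) := by abel
    rwa [e]

theorem V3_sub_eq (v w : V3) : v - w = v + -w := by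
  refine V3.ext ?_ ?_ ?_
  · show v.x - w.x = v.x + -w.x
    abel
  · show v.y - w.y = v.y + -w.y
    abel
  · show v.z - w.z = v.z + -w.z
    abel

theorem inLam_sub {v w : V3} (hv : inLam v = true) (hw : inLam w = true) :
    inLam (v - w) = true := by
  rw [V3_sub_eq]
  exact inLam_add hv (inLam_neg hw)

/-! ### integrality of norms -/

theorem nK_data {x : Aq} (hx : inI x = true) : ∃ a b : ℤ, nK x = ⟨a, b⟩ ∧ 0 ≤ a ∧
    8 * b ≤ 13 * a ∧ -5 * a ≤ 8 * b ∧ (a = 0 → x = 0) := by
  obtain ⟨a, b, h⟩ := nK_int hx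
  have h1 := nK_re_nonneg x
  have h2 := nK_upper x
  have h3 := nK_lower x
  rw [h] at h1 h2 h3
  have h1' : (0 : ℚ) ≤ a := h1
  have h2' : (8 : ℚ) * b ≤ 13 * a := h2
  have h3' : (-5 : ℚ) * a ≤ 8 * b := h3
  have g1 : 0 ≤ a := by exact_mod_cast h1'
  have g2 : 8 * b ≤ 13 * a := by exact_mod_cast h2'
  have g3 : -5 * a ≤ 8 * b := by exact_mod_cast h3'
  refine ⟨a, b, h, g1, g2, g3, ?_⟩
  intro ha
  have hb : b = 0 := by omega
  apply nK_eq_zero
  rw [h, ha, hb]
  rfl

theorem nK_hm : nK hm = 2 := by decide +kernel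

theorem exists_of_inIh {x : Aq} (hx : inIh x = true) : ∃ y, inI y = true ∧ x = y * hm ∧
    nK x = 2 * nK y := by
  refine ⟨x * hinv, hx, ?_, ?_⟩
  · rw [mul_assoc, hinv_hm, mul_one]
  · have : x = (x * hinv) * hm := by rw [mul_assoc, hinv_hm, mul_one]
    conv_lhs => rw [this]
    rw [nK_mul, nK_hm, mul_comm]

end Cfsg.Agent.Lib.Lead.J2
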