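import Cfsg.Agent.Lib.Lead.J2.E

set_option autoImplicit false
set_option linter.unusedSimpArgs false
set_option linter.unnecessarySeqFocus false
set_option linter.unreachableTactic false
set_option linter.unusedTactic false
set_option linter.unusedVariables false

/-!
# Representatives of the lines of minimal vectors
-/

namespace Cfsg.Agent.Lib.Lead.J2

open Quaternion

/-- `τ` -/
def tauA : Aq := ((⟨0, 1⟩ : Kq) : Aq)
/-- `σ = 1 - τ` -/
def sigA : Aq := ((⟨1, -1⟩ : Kq) : Aq)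
/-- `τ⁻¹ = τ - 1` -/
def tauInvA : Aq := ((⟨-1, 1⟩ : Kq) : Aq)
/-- `σ⁻¹ = -τ` -/
def sigInvA : Aq := ((⟨0, -1⟩ : Kq) : Aq)

theorem tauA_inv : tauA * tauInvA = 1 := by decide +kernel
theorem sigA_inv : sigA * sigInvA = 1 := by decide +kernel
theorem inI_tauInvA : inI tauInvA = true := by decide +kernel
theorem inI_sigInvA : inI sigInvA = true := by decide +kernel
theorem nK_tauInvA : nK tauInvA * ⟨1, 1⟩ = 1 := by decide +kernel
theorem nK_sigInvA : nK sigInvA * ⟨2, -1⟩ = 1 := by decide +kernel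

/-- the icosians of norm `τ²` -/
def St : List Aq := S1.map (fun u => tauA * u)
/-- the icosians of norm `σ²` -/
def Ss : List Aq := S1.map (fun u => sigA * u)

theorem St_complete {x : Aq} (hx : inI x = true) (hn : nK x = ⟨1, 1⟩) : x ∈ St := by
  have h1 : tauInvA * x ∈ S1 := by
    apply S1_complete (inI_mul inI_tauInvA hx)
    rw [nK_mul, hn, nK_tauInvA]
  refine List.mem_map.2 ⟨_, h1, ?_⟩
  show tauA * (tauInvA * x) = x
  rw [← mul_assoc, tauA_inv, one_mul]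

theorem Ss_complete {x : Aq} (hx : inI x = true) (hn : nK x = ⟨2, -1⟩) : x ∈ Ss := by
  have h1 : sigInvA * x ∈ S1 := by
    apply S1_complete (inI_mul inI_sigInvA hx)
    rw [nK_mul, hn, nK_sigInvA]
  refine List.mem_map.2 ⟨_, h1, ?_⟩
  show sigA * (sigInvA * x) = x
  rw [← mul_assoc, sigA_inv, one_mul]

/-- the members of a list congruent to `1` modulo `I h` -/
def Tf (L : List Aq) : List Aq := L.filter (fun y => inIh (1 - y))

/-- representatives with a coordinate equal to `1` -/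
def WU (t : Fin 3) (L1 L2 : List Aq) : List V3 :=
  (((Tf L1).product (Tf L2)).filter (fun p => inIhb (1 + p.1 + p.2))).map
    (fun p => ins t 1 p.1 p.2)

theorem mem_WU {t : Fin 3} {L1 L2 : List Aq} {q r : Aq} (h : inLam (ins t 1 q r) = true)
    (hq : q ∈ L1) (hr : r ∈ L2) : ins t 1 q r ∈ WU t L1 L2 := by
  rw [inLam_ins] at h
  obtain ⟨h1, h2, h3, h4, h5, h6⟩ := h
  refine List.mem_map.2 ⟨(q, r), ?_, rfl⟩
  refine List.mem_filter.2 ⟨?_, h6⟩
  refine List.pair_mem_product.2 ⟨?_, ?_⟩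
  · exact List.mem_filter.2 ⟨hq, h4⟩
  · exact List.mem_filter.2 ⟨hr, h5⟩

/-- representatives with exactly one zero coordinate -/
def WB (t : Fin 3) : List V3 :=
  (S1.filter (fun c => inIhb (hm + c * hm))).map (fun c => ins t 0 hm (c * hm))

theorem mem_WB {t : Fin 3} {c : Aq} (h : inLam (ins t 0 hm (c * hm)) = true) (hc : c ∈ S1) :
    ins t 0 hm (c * hm) ∈ WB t := by
  rw [inLam_ins] at h
  obtain ⟨h1, h2, h3, h4, h5, h6⟩ := h
  rw [zero_add] at h6
  exact List.mem_map.2 ⟨c, List.mem_filter.2 ⟨hc, h6⟩, rfl⟩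

/-- representatives with two zero coordinates -/
def WA : List V3 := [⟨2, 0, 0⟩, ⟨0, 2, 0⟩, ⟨0, 0, 2⟩]

/-- representatives of the lines -/
def Wl : List V3 := WA ++ (WB 0 ++ (WB 1 ++ (WB 2 ++ (WU 0 S2 S1 ++ (WU 0 S1 S2 ++ (WU 1 S2 S1 ++
  (WU 0 St Ss ++ (WU 0 Ss St ++ (WU 1 St Ss ++ (WU 1 Ss St ++ (WU 2 St Ss ++ WU 2 Ss St)))))))))))

theorem mem_Wl (w : V3) : w ∈ Wl ↔ w ∈ WA ∨ w ∈ WB 0 ∨ w ∈ WB 1 ∨ w ∈ WB 2 ∨ w ∈ WU 0 S2 S1 ∨
    w ∈ WU 0 S1 S2 ∨ w ∈ WU 1 S2 S1 ∨ w ∈ WU 0 St Ss ∨ w ∈ WU 0 Ss St ∨ w ∈ WU 1 St Ss ∨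
    w ∈ WU 1 Ss St ∨ w ∈ WU 2 St Ss ∨ w ∈ WU 2 Ss St := by
  unfold Wl
  simp only [List.mem_append]

theorem unit_mul_star {p : Aq} (hp : nK p = 1) : p * star p = 1 := by
  rw [mul_star_eq, hp]
  rfl

theorem unit_star_mul {p : Aq} (hp : nK p = 1) : star p * p = 1 := by
  rw [star_mul_eq, hp]
  rfl

/-- normalising a unit coordinate -/
theorem rep_unit (t : Fin 3) {p q r : Aq} {n1 n2 : Kq} (L1 L2 : List Aq)
    (hL1 : ∀ x, inI x = true → nK x = n1 → x ∈ L1)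
    (hL2 : ∀ x, inI x = true → nK x = n2 → x ∈ L2)
    (hv : inLam (ins t p q r) = true) (hp : nK p = 1) (hq : nK q = n1) (hr : nK r = n2) :
    ∃ u ∈ S1, ∃ w ∈ WU t L1 L2, ins t p q r = lsm u w := by
  have hv' := (inLam_ins t p q r).1 hv
  obtain ⟨h1, h2, h3, h4, h5, h6⟩ := hv'
  have hsp : inI (star p) = true := inI_star h1
  refine ⟨p, S1_complete h1 hp, ins t 1 (star p * q) (star p * r), ?_, ?_⟩
  · apply mem_WU
    · have := inLam_lsm hsp hv
      rwa [lsm_ins, unit_star_mul hp] at this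
    · apply hL1 _ (inI_mul hsp h2)
      rw [nK_mul, nK_star, hp, hq, one_mul]
    · apply hL2 _ (inI_mul hsp h3)
      rw [nK_mul, nK_star, hp, hr, one_mul]
  · rw [lsm_ins, mul_one, ← mul_assoc, ← mul_assoc, unit_mul_star hp, one_mul, one_mul]

end Cfsg.Agent.Lib.Lead.J2
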