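import Cfsg.Agent.Lib.Lead.J2.E2

set_option autoImplicit false
set_option linter.unusedSimpArgs false
set_option linter.unnecessarySeqFocus false
set_option linter.unreachableTactic false
set_option linter.unusedTactic false
set_option linter.unusedVariables false

/-!
# Every minimal vector is a unit multiple of a representative
-/

namespace Cfsg.Agent.Lib.Lead.J2

open Quaternion

/-- elements of `ℤ[τ]` -/
def ofZ (a b : ℤ) : Kq := ⟨(a : ℚ), (b : ℚ)⟩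

theorem ofZ_add (a b c d : ℤ) : ofZ a b + ofZ c d = ofZ (a + c) (b + d) := by
  unfold ofZ
  ext
  · show (a : ℚ) + (c : ℚ) = ((a + c : ℤ) : ℚ)
    push_cast
    rfl
  · show (b : ℚ) + (d : ℚ) = ((b + d : ℤ) : ℚ)
    push_cast
    rfl

theorem ofZ_inj {a b c d : ℤ} (h : ofZ a b = ofZ c d) : a = c ∧ b = d := by
  have h1 : (a : ℚ) = (c : ℚ) := congrArg QuadraticAlgebra.re h
  have h2 : (b : ℚ) = (d : ℚ) := congrArg QuadraticAlgebra.im h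
  exact ⟨by exact_mod_cast h1, by exact_mod_cast h2⟩

theorem ofZ_one : ofZ 1 0 = 1 := by decide +kernel
theorem ofZ_two : ofZ 2 0 = 2 := by decide +kernel
theorem ofZ_four : ofZ 4 0 = 4 := by decide +kernel
theorem ofZ_zero : ofZ 0 0 = 0 := by decide +kernel
theorem ofZ_tau2 : ofZ 1 1 = ⟨1, 1⟩ := by decide +kernel
theorem ofZ_sig2 : ofZ 2 (-1) = ⟨2, -1⟩ := by decide +kernel

theorem two_mul_ofZ (a b : ℤ) : 2 * ofZ a b = ofZ (2 * a) (2 * b) := by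
  rw [two_mul, ofZ_add]
  congr 1 <;> ring

theorem nK_data' {x : Aq} (hx : inI x = true) : ∃ a b : ℤ, nK x = ofZ a b ∧ 0 ≤ a ∧
    8 * b ≤ 13 * a ∧ -5 * a ≤ 8 * b ∧ (a = 0 → x = 0) := nK_data hx

theorem pat_int (a1 b1 a2 b2 a3 b3 : ℤ) (p1 : 1 ≤ a1) (p2 : 1 ≤ a2) (p3 : 1 ≤ a3)
    (u1 : 8 * b1 ≤ 13 * a1) (l1 : -5 * a1 ≤ 8 * b1) (u2 : 8 * b2 ≤ 13 * a2)
    (l2 : -5 * a2 ≤ 8 * b2) (u3 : 8 * b3 ≤ 13 * a3) (l3 : -5 * a3 ≤ 8 * b3)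
    (sa : a1 + a2 + a3 = 4) (sb : b1 + b2 + b3 = 0) :
    (a1 = 1 ∧ b1 = 0 ∧ ((a2 = 2 ∧ b2 = 0 ∧ a3 = 1 ∧ b3 = 0) ∨
      (a2 = 1 ∧ b2 = 0 ∧ a3 = 2 ∧ b3 = 0) ∨ (a2 = 1 ∧ b2 = 1 ∧ a3 = 2 ∧ b3 = -1) ∨
      (a2 = 2 ∧ b2 = -1 ∧ a3 = 1 ∧ b3 = 1))) ∨
    (a2 = 1 ∧ b2 = 0 ∧ ((a1 = 2 ∧ b1 = 0 ∧ a3 = 1 ∧ b3 = 0) ∨
      (a1 = 1 ∧ b1 = 1 ∧ a3 = 2 ∧ b3 = -1) ∨ (a1 = 2 ∧ b1 = -1 ∧ a3 = 1 ∧ b3 = 1))) ∨
    (a3 = 1 ∧ b3 = 0 ∧ ((a1 = 1 ∧ b1 = 1 ∧ a2 = 2 ∧ b2 = -1) ∨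
      (a1 = 2 ∧ b1 = -1 ∧ a2 = 1 ∧ b2 = 1))) := by
  have r1 : a1 ≤ 2 := by omega
  have r2 : a2 ≤ 2 := by omega
  have r3 : a3 ≤ 2 := by omega
  have s1 : -1 ≤ b1 ∧ b1 ≤ 3 := by omega
  have s2 : -1 ≤ b2 ∧ b2 ≤ 3 := by omega
  have s3 : -1 ≤ b3 ∧ b3 ≤ 3 := by omega
  obtain ⟨s1, s1'⟩ := s1
  obtain ⟨s2, s2'⟩ := s2
  obtain ⟨s3, s3'⟩ := s3
  interval_cases a1 <;> interval_cases a2 <;> interval_cases b1 <;> interval_cases b2 <;> omega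

theorem ins0_eta (v : V3) : ins 0 v.x v.y v.z = v := rfl
theorem ins1_eta (v : V3) : ins 1 v.y v.x v.z = v := rfl
theorem ins2_eta (v : V3) : ins 2 v.z v.x v.y = v := rfl

/-- vectors without zero coordinate -/
theorem rep_nonzero {v : V3} (hv : inLam v = true) (hn : nV v = 4) (hx : v.x ≠ 0) (hy : v.y ≠ 0)
    (hz : v.z ≠ 0) : ∃ u ∈ S1, ∃ w ∈ Wl, v = lsm u w := by
  have hv' := (inLam_iff v).1 hv
  obtain ⟨a1, b1, e1, p1, u1, l1, z1⟩ := nK_data' hv'.1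
  obtain ⟨a2, b2, e2, p2, u2, l2, z2⟩ := nK_data' hv'.2.1
  obtain ⟨a3, b3, e3, p3, u3, l3, z3⟩ := nK_data' hv'.2.2.1
  have q1 : 1 ≤ a1 := by
    rcases p1.lt_or_eq with h | h
    · omega
    · exact absurd (z1 h.symm) hx
  have q2 : 1 ≤ a2 := by
    rcases p2.lt_or_eq with h | h
    · omega
    · exact absurd (z2 h.symm) hy
  have q3 : 1 ≤ a3 := by
    rcases p3.lt_or_eq with h | h
    · omega
    · exact absurd (z3 h.symm) hz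
  have hs : ofZ (a1 + a2 + a3) (b1 + b2 + b3) = ofZ 4 0 := by
    rw [ofZ_four, ← hn, nV, e1, e2, e3, ofZ_add, ofZ_add]
  obtain ⟨sa, sb⟩ := ofZ_inj hs
  have c0 : inLam (ins 0 v.x v.y v.z) = true := by rw [ins0_eta]; exact hv
  have c1 : inLam (ins 1 v.y v.x v.z) = true := by rw [ins1_eta]; exact hv
  have c2 : inLam (ins 2 v.z v.x v.y) = true := by rw [ins2_eta]; exact hv
  have k1 : ∀ x, inI x = true → nK x = 1 → x ∈ S1 := fun x h h' => S1_complete h h'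
  have k2 : ∀ x, inI x = true → nK x = 2 → x ∈ S2 := fun x h h' => S2_complete h h'
  have kt : ∀ x, inI x = true → nK x = ⟨1, 1⟩ → x ∈ St := fun x h h' => St_complete h h'
  have ks : ∀ x, inI x = true → nK x = ⟨2, -1⟩ → x ∈ Ss := fun x h h' => Ss_complete h h'
  rcases pat_int a1 b1 a2 b2 a3 b3 q1 q2 q3 u1 l1 u2 l2 u3 l3 sa sb with
    ⟨rfl, rfl, h | h | h | h⟩ | ⟨rfl, rfl, h | h | h⟩ | ⟨rfl, rfl, h | h⟩
  · obtain ⟨rfl, rfl, rfl, rfl⟩ := h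
    rw [ofZ_one] at e1 e3
    rw [ofZ_two] at e2
    obtain ⟨u, hu, w, hw, h⟩ := rep_unit 0 S2 S1 k2 k1 c0 e1 e2 e3
    exact ⟨u, hu, w, (mem_Wl w).2 (by simp only [hw, true_or, or_true]), h⟩
  · obtain ⟨rfl, rfl, rfl, rfl⟩ := h
    rw [ofZ_one] at e1 e2
    rw [ofZ_two] at e3
    obtain ⟨u, hu, w, hw, h⟩ := rep_unit 0 S1 S2 k1 k2 c0 e1 e2 e3
    exact ⟨u, hu, w, (mem_Wl w).2 (by simp only [hw, true_or, or_true]), h⟩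
  · obtain ⟨rfl, rfl, rfl, rfl⟩ := h
    rw [ofZ_one] at e1
    rw [ofZ_tau2] at e2
    rw [ofZ_sig2] at e3
    obtain ⟨u, hu, w, hw, h⟩ := rep_unit 0 St Ss kt ks c0 e1 e2 e3
    exact ⟨u, hu, w, (mem_Wl w).2 (by simp only [hw, true_or, or_true]), h⟩
  · obtain ⟨rfl, rfl, rfl, rfl⟩ := h
    rw [ofZ_one] at e1
    rw [ofZ_tau2] at e3
    rw [ofZ_sig2] at e2
    obtain ⟨u, hu, w, hw, h⟩ := rep_unit 0 Ss St ks kt c0 e1 e2 e3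
    exact ⟨u, hu, w, (mem_Wl w).2 (by simp only [hw, true_or, or_true]), h⟩
  · obtain ⟨rfl, rfl, rfl, rfl⟩ := h
    rw [ofZ_one] at e2 e3
    rw [ofZ_two] at e1
    obtain ⟨u, hu, w, hw, h⟩ := rep_unit 1 S2 S1 k2 k1 c1 e2 e1 e3
    exact ⟨u, hu, w, (mem_Wl w).2 (by simp only [hw, true_or, or_true]), h⟩
  · obtain ⟨rfl, rfl, rfl, rfl⟩ := h
    rw [ofZ_one] at e2
    rw [ofZ_tau2] at e1
    rw [ofZ_sig2] at e3
    obtain ⟨u, hu, w, hw, h⟩ := rep_unit 1 St Ss kt ks c1 e2 e1 e3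
    exact ⟨u, hu, w, (mem_Wl w).2 (by simp only [hw, true_or, or_true]), h⟩
  · obtain ⟨rfl, rfl, rfl, rfl⟩ := h
    rw [ofZ_one] at e2
    rw [ofZ_tau2] at e3
    rw [ofZ_sig2] at e1
    obtain ⟨u, hu, w, hw, h⟩ := rep_unit 1 Ss St ks kt c1 e2 e1 e3
    exact ⟨u, hu, w, (mem_Wl w).2 (by simp only [hw, true_or, or_true]), h⟩
  · obtain ⟨rfl, rfl, rfl, rfl⟩ := h
    rw [ofZ_one] at e3
    rw [ofZ_tau2] at e1
    rw [ofZ_sig2] at e2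
    obtain ⟨u, hu, w, hw, h⟩ := rep_unit 2 St Ss kt ks c2 e3 e1 e2
    exact ⟨u, hu, w, (mem_Wl w).2 (by simp only [hw, true_or, or_true]), h⟩
  · obtain ⟨rfl, rfl, rfl, rfl⟩ := h
    rw [ofZ_one] at e3
    rw [ofZ_tau2] at e2
    rw [ofZ_sig2] at e1
    obtain ⟨u, hu, w, hw, h⟩ := rep_unit 2 Ss St ks kt c2 e3 e1 e2
    exact ⟨u, hu, w, (mem_Wl w).2 (by simp only [hw, true_or, or_true]), h⟩

end Cfsg.Agent.Lib.Lead.J2
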