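import Cfsg.Agent.Lib.Lead.J2.E3

set_option autoImplicit false
set_option linter.unusedSimpArgs false
set_option linter.unnecessarySeqFocus false
set_option linter.unreachableTactic false
set_option linter.unusedTactic false
set_option linter.unusedVariables false

/-!
# Icosians of norm 4 in two of the ideals of norm 2 are twice a unit
-/

namespace Cfsg.Agent.Lib.Lead.J2

open Quaternion

/-- the property of an icosian `a` of norm 2: if `a h` lies in `I h̄` then it is twice an icosian -/
def twoUnitP (a : Aq) : Prop := inIhb (a * hm) = true → inI (halfA * (a * hm)) = true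

instance : DecidablePred twoUnitP := fun a => by
  unfold twoUnitP
  infer_instance

set_option maxRecDepth 100000 in
set_option maxHeartbeats 0 in
theorem S2_two_unit0 : ∀ c ∈ (S2C.drop 0).take 150, twoUnitP (ofC c) := by decide +kernel

set_option maxRecDepth 100000 in
set_option maxHeartbeats 0 in
theorem S2_two_unit1 : ∀ c ∈ (S2C.drop 150).take 150, twoUnitP (ofC c) := by decide +kernel

set_option maxRecDepth 100000 in
set_option maxHeartbeats 0 in
theorem S2_two_unit2 : ∀ c ∈ (S2C.drop 300).take 150, twoUnitP (ofC c) := by decide +kernel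

set_option maxRecDepth 100000 in
set_option maxHeartbeats 0 in
theorem S2_two_unit3 : ∀ c ∈ S2C.drop 450, twoUnitP (ofC c) := by decide +kernel

theorem S2C_two_unit : ∀ c ∈ S2C, twoUnitP (ofC c) := by
  have h3 := S2_two_unit3
  have h2 : ∀ c ∈ S2C.drop 300, twoUnitP (ofC c) := by
    apply forall_take_drop _ _ 150 S2_two_unit2
    rw [List.drop_drop]
    exact h3
  have h1 : ∀ c ∈ S2C.drop 150, twoUnitP (ofC c) := by
    apply forall_take_drop _ _ 150 S2_two_unit1
    rw [List.drop_drop]
    exact h2
  have h0 : ∀ c ∈ S2C.drop 0, twoUnitP (ofC c) := by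
    apply forall_take_drop _ _ 150 S2_two_unit0
    rw [List.drop_drop]
    exact h1
  exact h0

theorem S2_two_unit : ∀ a ∈ S2, inIhb (a * hm) = true → inI (halfA * (a * hm)) = true := by
  intro a ha
  obtain ⟨c, hc, rfl⟩ := List.mem_map.1 ha
  exact S2C_two_unit c hc

end Cfsg.Agent.Lib.Lead.J2
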