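import Cfsg.Agent.Lib.Lead.J2.E3b

set_option autoImplicit false
set_option linter.unusedSimpArgs false
set_option linter.unnecessarySeqFocus false
set_option linter.unreachableTactic false
set_option linter.unusedTactic false
set_option linter.unusedVariables false

/-!
# Every minimal vector is a unit multiple of a representative: vectors with a zero coordinate
-/

namespace Cfsg.Agent.Lib.Lead.J2

open Quaternion

theorem halfA_eq_coe : halfA = (((⟨1 / 2, 0⟩ : Kq)) : Aq) := by decide +kernel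

theorem halfA_comm (x : Aq) : halfA * x = x * halfA := by
  rw [halfA_eq_coe]
  exact Quaternion.coe_commutes _ _

theorem halfA_two : halfA * 2 = 1 := by decide +kernel
theorem nK_halfA_four : nK halfA * 4 = 1 := by decide +kernel
theorem halfK_two : (⟨1 / 2, 0⟩ : Kq) * 2 = 1 := by decide +kernel

theorem two_cancel {x y : Kq} (h : 2 * x = 2 * y) : x = y := by
  have := congrArg (fun z => (⟨1 / 2, 0⟩ : Kq) * z) h
  beta_reduce at this
  rwa [← mul_assoc, ← mul_assoc, halfK_two, one_mul, one_mul] at this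

theorem two_unit {q : Aq} (hq1 : inIh q = true) (hq2 : inIhb q = true) (hn : nK q = 4) :
    ∃ u ∈ S1, q = u * 2 := by
  obtain ⟨a, ha, rfl, hna⟩ := exists_of_inIh hq1
  have h2 : nK a = 2 := by
    have h4 : (2 : Kq) * nK a = 2 * 2 := by
      rw [← hna, hn]
      decide +kernel
    exact two_cancel h4
  have h3 := S2_two_unit a (S2_complete ha h2) hq2
  refine ⟨halfA * (a * hm), S1_complete h3 ?_, ?_⟩
  · rw [nK_mul, hn, nK_halfA_four]
  · rw [halfA_comm, mul_assoc (a * hm), halfA_two, mul_one]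

theorem WA_mem0 : (⟨2, 0, 0⟩ : V3) ∈ WA := List.mem_cons_self
theorem WA_mem1 : (⟨0, 2, 0⟩ : V3) ∈ WA := List.mem_cons_of_mem _ List.mem_cons_self
theorem WA_mem2 : (⟨0, 0, 2⟩ : V3) ∈ WA :=
  List.mem_cons_of_mem _ (List.mem_cons_of_mem _ List.mem_cons_self)

theorem one_one_int (a1 b1 a2 b2 : ℤ) (p1 : 1 ≤ a1) (p2 : 1 ≤ a2)
    (l1 : -5 * a1 ≤ 8 * b1) (l2 : -5 * a2 ≤ 8 * b2)
    (sa : a1 + a2 = 2) (sb : b1 + b2 = 0) : a1 = 1 ∧ b1 = 0 ∧ a2 = 1 ∧ b2 = 0 := by
  have r1 : a1 = 1 := by omega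
  have r2 : a2 = 1 := by omega
  subst r1 r2
  refine ⟨rfl, ?_, rfl, ?_⟩ <;> omega

/-- vectors with a zero coordinate -/
theorem rep_zero (t : Fin 3) {q r : Aq} (hv : inLam (ins t 0 q r) = true)
    (hn : nK q + nK r = 4) : ∃ u ∈ S1, ∃ w, (w = ins t 0 2 0 ∨ w = ins t 0 0 2 ∨ w ∈ WB t) ∧
      ins t 0 q r = lsm u w := by
  obtain ⟨h1, h2, h3, h4, h5, h6⟩ := (inLam_ins t 0 q r).1 hv
  have hq : inIh q = true := by
    have := inIh_neg h4
    rwa [zero_sub, neg_neg] at this
  have hr : inIh r = true := by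
    have := inIh_neg h5
    rwa [zero_sub, neg_neg] at this
  by_cases hr0 : r = 0
  · subst hr0
    rw [nK_zero, add_zero] at hn
    rw [zero_add, add_zero] at h6
    obtain ⟨u, hu, rfl⟩ := two_unit hq h6 hn
    refine ⟨u, hu, ins t 0 2 0, Or.inl rfl, ?_⟩
    rw [lsm_ins, mul_zero]
  by_cases hq0 : q = 0
  · subst hq0
    rw [nK_zero, zero_add] at hn
    rw [zero_add, zero_add] at h6
    obtain ⟨u, hu, rfl⟩ := two_unit hr h6 hn
    refine ⟨u, hu, ins t 0 0 2, Or.inr (Or.inl rfl), ?_⟩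
    rw [lsm_ins, mul_zero]
  obtain ⟨a, ha, rfl, hna⟩ := exists_of_inIh hq
  obtain ⟨b, hb, rfl, hnb⟩ := exists_of_inIh hr
  obtain ⟨a1, b1, e1, p1, u1, l1, z1⟩ := nK_data' ha
  obtain ⟨a2, b2, e2, p2, u2, l2, z2⟩ := nK_data' hb
  have q1 : 1 ≤ a1 := by
    rcases p1.lt_or_eq with h | h
    · omega
    · exfalso
      apply hq0
      rw [z1 h.symm, zero_mul]
  have q2 : 1 ≤ a2 := by
    rcases p2.lt_or_eq with h | h
    · omega
    · exfalso
      apply hr0
      rw [z2 h.symm, zero_mul]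
  have hs : ofZ (a1 + a2) (b1 + b2) = ofZ 2 0 := by
    have h4 : (2 : Kq) * (nK a + nK b) = 2 * 2 := by
      rw [mul_add, ← hna, ← hnb, hn]
      decide +kernel
    have := two_cancel h4
    rw [ofZ_two, ← this, e1, e2, ofZ_add]
  obtain ⟨sa, sb⟩ := ofZ_inj hs
  obtain ⟨rfl, rfl, rfl, rfl⟩ := one_one_int a1 b1 a2 b2 q1 q2 l1 l2 sa sb
  rw [ofZ_one] at e1 e2
  have hsa : inI (star a) = true := inI_star ha
  have hc : star a * b ∈ S1 := by
    apply S1_complete (inI_mul hsa hb)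
    rw [nK_mul, nK_star, e1, e2, one_mul]
  have key : lsm (star a) (ins t 0 (a * hm) (b * hm)) = ins t 0 hm (star a * b * hm) := by
    rw [lsm_ins, mul_zero, ← mul_assoc, unit_star_mul e1, one_mul, ← mul_assoc]
  refine ⟨a, S1_complete ha e1, ins t 0 hm (star a * b * hm), Or.inr (Or.inr ?_), ?_⟩
  · apply mem_WB _ hc
    rw [← key]
    exact inLam_lsm hsa hv
  · rw [lsm_ins, mul_zero, ← mul_assoc, ← mul_assoc, unit_mul_star e1, one_mul]

theorem nV_ne_zero {v : V3} (hn : nV v = 4) (h1 : v.x = 0) (h2 : v.y = 0) (h3 : v.z = 0) :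
    False := by
  rw [nV, h1, h2, h3, nK_zero, add_zero, add_zero] at hn
  revert hn
  decide +kernel

/-- every minimal vector is a unit multiple of a representative -/
theorem exists_rep {v : V3} (hv : inLam v = true) (hn : nV v = 4) :
    ∃ u ∈ S1, ∃ w ∈ Wl, v = lsm u w := by
  by_cases hx : v.x = 0
  · have e : ins 0 0 v.y v.z = v := by
      rw [← hx]
      exact ins0_eta v
    have hn' : nK v.y + nK v.z = 4 := by rw [← hn, nV, hx, nK_zero, zero_add]
    have hv' : inLam (ins 0 0 v.y v.z) = true := by rw [e]; exact hv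
    obtain ⟨u, hu, w, hw, h⟩ := rep_zero 0 hv' hn'
    refine ⟨u, hu, w, ?_, e.symm.trans h⟩
    rw [mem_Wl]
    rcases hw with rfl | rfl | hw
    · exact Or.inl WA_mem1
    · exact Or.inl WA_mem2
    · exact Or.inr (Or.inl hw)
  by_cases hy : v.y = 0
  · have e : ins 1 0 v.x v.z = v := by
      rw [← hy]
      exact ins1_eta v
    have hn' : nK v.x + nK v.z = 4 := by rw [← hn, nV, hy, nK_zero, add_zero]
    have hv' : inLam (ins 1 0 v.x v.z) = true := by rw [e]; exact hv
    obtain ⟨u, hu, w, hw, h⟩ := rep_zero 1 hv' hn'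
    refine ⟨u, hu, w, ?_, e.symm.trans h⟩
    rw [mem_Wl]
    rcases hw with rfl | rfl | hw
    · exact Or.inl WA_mem0
    · exact Or.inl WA_mem2
    · exact Or.inr (Or.inr (Or.inl hw))
  by_cases hz : v.z = 0
  · have e : ins 2 0 v.x v.y = v := by
      rw [← hz]
      exact ins2_eta v
    have hn' : nK v.x + nK v.y = 4 := by rw [← hn, nV, hz, nK_zero, add_zero]
    have hv' : inLam (ins 2 0 v.x v.y) = true := by rw [e]; exact hv
    obtain ⟨u, hu, w, hw, h⟩ := rep_zero 2 hv' hn'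
    refine ⟨u, hu, w, ?_, e.symm.trans h⟩
    rw [mem_Wl]
    rcases hw with rfl | rfl | hw
    · exact Or.inl WA_mem0
    · exact Or.inl WA_mem1
    · exact Or.inr (Or.inr (Or.inr (Or.inl hw)))
  exact rep_nonzero hv hn hx hy hz

end Cfsg.Agent.Lib.Lead.J2
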