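import Cfsg.Agent.Lib.Lead.J2.F

set_option autoImplicit false
set_option linter.unusedSimpArgs false
set_option linter.unnecessarySeqFocus false
set_option linter.unreachableTactic false
set_option linter.unusedTactic false
set_option linter.unusedVariables false

/-!
# The pivot of a minimal vector
-/

namespace Cfsg.Agent.Lib.Lead.J2

open Quaternion

/-- the unit by which a minimal vector differs from its representative -/
def piv (v : V3) : Aq :=
  if nK v.x = 1 then v.x else if nK v.y = 1 then v.y else if nK v.z = 1 then v.z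
  else if v.x = 0 then (if v.y = 0 then v.z * halfA else
    (if nK v.y = 2 then v.y * hinv else v.y * halfA))
  else (if nK v.x = 2 then v.x * hinv else v.x * halfA)

theorem unit_mul_eq_zero {u x : Aq} (hu : nK u = 1) : u * x = 0 ↔ x = 0 := by
  constructor
  · intro h
    have : star u * (u * x) = 0 := by rw [h, mul_zero]
    rwa [← mul_assoc, unit_star_mul hu, one_mul] at this
  · intro h
    rw [h, mul_zero]

theorem piv_lsm {u : Aq} (hu : nK u = 1) (v : V3) : piv (lsm u v) = u * piv v := by
  unfold piv
  simp only [lsm_x, lsm_y, lsm_z, nK_mul, hu, one_mul, unit_mul_eq_zero hu]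
  split_ifs <;> simp only [mul_assoc]

/-- the properties of a representative -/
def repP (w : V3) : Prop := piv w = 1 ∧ inLam w = true ∧ nV w = 4

instance : DecidablePred repP := fun w => by
  unfold repP
  infer_instance

set_option maxRecDepth 1000000 in
set_option maxHeartbeats 0 in
theorem WlC_rep0 : ∀ c ∈ (WlC.drop 0).take 63, repP (vOf c) := by decide +kernel

set_option maxRecDepth 1000000 in
set_option maxHeartbeats 0 in
theorem WlC_rep1 : ∀ c ∈ (WlC.drop 63).take 63, repP (vOf c) := by decide +kernel

set_option maxRecDepth 1000000 in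
set_option maxHeartbeats 0 in
theorem WlC_rep2 : ∀ c ∈ (WlC.drop 126).take 63, repP (vOf c) := by decide +kernel

set_option maxRecDepth 1000000 in
set_option maxHeartbeats 0 in
theorem WlC_rep3 : ∀ c ∈ (WlC.drop 189).take 63, repP (vOf c) := by decide +kernel

set_option maxRecDepth 1000000 in
set_option maxHeartbeats 0 in
theorem WlC_rep4 : ∀ c ∈ WlC.drop 252, repP (vOf c) := by decide +kernel

theorem WlC_rep : ∀ c ∈ WlC, repP (vOf c) := by
  have h4 := WlC_rep4
  have h3 : ∀ c ∈ WlC.drop 189, repP (vOf c) := by
    apply forall_take_drop _ _ 63 WlC_rep3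
    rw [List.drop_drop]
    exact h4
  have h2 : ∀ c ∈ WlC.drop 126, repP (vOf c) := by
    apply forall_take_drop _ _ 63 WlC_rep2
    rw [List.drop_drop]
    exact h3
  have h1 : ∀ c ∈ WlC.drop 63, repP (vOf c) := by
    apply forall_take_drop _ _ 63 WlC_rep1
    rw [List.drop_drop]
    exact h2
  have h0 : ∀ c ∈ WlC.drop 0, repP (vOf c) := by
    apply forall_take_drop _ _ 63 WlC_rep0
    rw [List.drop_drop]
    exact h1
  exact h0

theorem WlX_rep : ∀ w ∈ WlX, repP w := by
  intro w hw
  obtain ⟨c, hc, rfl⟩ := List.mem_map.1 hw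
  exact WlC_rep c hc

theorem WlX_piv : ∀ w ∈ WlX, piv w = 1 := fun w hw => (WlX_rep w hw).1
theorem WlX_inLam : ∀ w ∈ WlX, inLam w = true := fun w hw => (WlX_rep w hw).2.1
theorem WlX_nV : ∀ w ∈ WlX, nV w = 4 := fun w hw => (WlX_rep w hw).2.2

theorem WlX_length : WlX.length = 315 := by
  unfold WlX
  rw [List.length_map]
  decide +kernel

end Cfsg.Agent.Lib.Lead.J2
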