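import Cfsg.Agent.Lib.Lead.J2.F

set_option autoImplicit false

/-!
# The representatives are distinct
-/

namespace Cfsg.Agent.Lib.Lead.J2

/-- the doubled coordinates of a quaternion, shifted by 4 -/
def dcs (x : Aq) : List ℕ := [((2 * cc0 x).num + 4).toNat, ((2 * cc1 x).num + 4).toNat,
  ((2 * cc2 x).num + 4).toNat, ((2 * cc3 x).num + 4).toNat, ((2 * cc4 x).num + 4).toNat,
  ((2 * cc5 x).num + 4).toNat, ((2 * cc6 x).num + 4).toNat, ((2 * cc7 x).num + 4).toNat]

/-- the value of a list of digits in base 9 -/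
def val9 : List ℕ → ℕ
  | [] => 0
  | d :: l => d + 9 * val9 l

/-- the code of a vector -/
def vcode (v : V3) : ℕ := val9 (dcs v.x ++ dcs v.y ++ dcs v.z)

set_option maxRecDepth 1000000 in
set_option maxHeartbeats 0 in
theorem vcode_vOf : ∀ c ∈ WlC, vcode (vOf c) = c := by decide +kernel

set_option maxRecDepth 1000000 in
set_option maxHeartbeats 0 in
theorem WlC_nodup : WlC.Nodup := by decide +kernel

theorem WlX_nodup : WlX.Nodup := by
  unfold WlX
  apply List.Nodup.map_on _ WlC_nodup
  intro x hx y hy h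
  rw [← vcode_vOf x hx, ← vcode_vOf y hy, h]

end Cfsg.Agent.Lib.Lead.J2
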