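import Cfsg.Agent.Lib.Lead.J2.F2
import Cfsg.Agent.Lib.Lead.J2.F3

set_option autoImplicit false
set_option linter.unusedSimpArgs false
set_option linter.unnecessarySeqFocus false
set_option linter.unreachableTactic false
set_option linter.unusedTactic false
set_option linter.unusedVariables false
set_option linter.constructorNameAsVariable false

/-!
# The number of minimal vectors
-/

namespace Cfsg.Agent.Lib.Lead.J2

open Quaternion

/-- the minimal vectors of the model -/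
def Mset : Set V3 := {v | inLam v = true ∧ nV v = 4}

theorem mem_Mset (v : V3) : v ∈ Mset ↔ inLam v = true ∧ nV v = 4 := Iff.rfl

theorem nV_lsm {u : Aq} (hu : nK u = 1) (v : V3) : nV (lsm u v) = nV v := by
  unfold nV
  rw [lsm_x, lsm_y, lsm_z, nK_mul, nK_mul, nK_mul, hu, one_mul, one_mul, one_mul]

theorem S1_unit {u : Aq} (hu : u ∈ S1) : inI u = true ∧ nK u = 1 := S1_spec u hu

theorem lsm_mem_Mset {u : Aq} {w : V3} (hu : u ∈ S1) (hw : w ∈ Mset) : lsm u w ∈ Mset := by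
  obtain ⟨h1, h2⟩ := S1_unit hu
  exact ⟨inLam_lsm h1 hw.1, by rw [nV_lsm h2]; exact hw.2⟩

theorem WlX_sub_Mset {w : V3} (hw : w ∈ WlX) : w ∈ Mset := ⟨WlX_inLam w hw, WlX_nV w hw⟩

theorem lsm_cancel {u : Aq} (hu : nK u = 1) {v w : V3} (h : lsm u v = lsm u w) : v = w := by
  have := congrArg (lsm (star u)) h
  rwa [lsm_lsm, lsm_lsm, unit_star_mul hu, lsm_one, lsm_one] at this

theorem rep_unique {u u' : Aq} {w w' : V3} (hu : u ∈ S1) (hu' : u' ∈ S1) (hw : w ∈ WlX)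
    (hw' : w' ∈ WlX) (h : lsm u w = lsm u' w') : u = u' ∧ w = w' := by
  have h1 := congrArg piv h
  rw [piv_lsm (S1_unit hu).2, piv_lsm (S1_unit hu').2, WlX_piv w hw, WlX_piv w' hw', mul_one,
    mul_one] at h1
  subst h1
  exact ⟨rfl, lsm_cancel (S1_unit hu).2 h⟩

theorem exists_rep' {v : V3} (hv : v ∈ Mset) : ∃ u ∈ S1, ∃ w ∈ WlX, v = lsm u w := by
  obtain ⟨u, hu, w, hw, h⟩ := exists_rep hv.1 hv.2
  rw [Wl_eq] at hw
  exact ⟨u, hu, w, hw, h⟩

theorem Mset_eq : Mset = (fun p : Aq × V3 => lsm p.1 p.2) ''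
    ((S1.toFinset ×ˢ WlX.toFinset : Finset (Aq × V3)) : Set (Aq × V3)) := by
  ext v
  constructor
  · intro hv
    obtain ⟨u, hu, w, hw, h⟩ := exists_rep' hv
    refine ⟨(u, w), ?_, h.symm⟩
    rw [Finset.mem_coe, Finset.mem_product]
    exact ⟨List.mem_toFinset.2 hu, List.mem_toFinset.2 hw⟩
  · rintro ⟨⟨u, w⟩, hp, rfl⟩
    rw [Finset.mem_coe, Finset.mem_product] at hp
    exact lsm_mem_Mset (List.mem_toFinset.1 hp.1) (WlX_sub_Mset (List.mem_toFinset.1 hp.2))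

theorem Mset_ncard : Mset.ncard = 37800 := by
  rw [Mset_eq, Set.InjOn.ncard_image, Set.ncard_coe_finset, Finset.card_product,
    List.toFinset_card_of_nodup S1_nodup, List.toFinset_card_of_nodup WlX_nodup, S1_length,
    WlX_length]
  rintro ⟨u, w⟩ hp ⟨u', w'⟩ hp' h
  rw [Finset.mem_coe, Finset.mem_product] at hp hp'
  obtain ⟨h1, h2⟩ := rep_unique (List.mem_toFinset.1 hp.1) (List.mem_toFinset.1 hp'.1)
    (List.mem_toFinset.1 hp.2) (List.mem_toFinset.1 hp'.2) h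
  exact Prod.ext h1 h2

theorem Mset_finite : Mset.Finite := by
  rw [Mset_eq]
  exact (Finset.finite_toSet _).image _

/-! ### transport to the real quaternions -/

theorem qip_self_P3 (v : V3) : Spor.qip (P3 v) (P3 v) = 4 ↔ nV v = 4 := by
  rw [qip_P3, qipm_self, Phi_coe]
  constructor
  · intro h
    have h1 : iota (nV v) = 4 := congrArg (fun q : ℍ[ℝ] => q.re) h
    apply iota_injective
    rw [h1, map_ofNat]
  · intro h
    rw [h, map_ofNat]
    rfl

theorem minvec_eq : {r : Fin 3 → ℍ[ℝ] | r ∈ Spor.icoLeech ∧ Spor.qip r r = 4} = P3 '' Mset := by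
  ext r
  constructor
  · rintro ⟨h1, h2⟩
    obtain ⟨v, hv, rfl⟩ := (mem_icoLeech_iff r).1 h1
    exact ⟨v, ⟨hv, (qip_self_P3 v).1 h2⟩, rfl⟩
  · rintro ⟨v, hv, rfl⟩
    exact ⟨(mem_icoLeech_iff _).2 ⟨v, hv.1, rfl⟩, (qip_self_P3 v).2 hv.2⟩

theorem minvec_ncard :
    {r : Fin 3 → ℍ[ℝ] | r ∈ Spor.icoLeech ∧ Spor.qip r r = 4}.ncard = 37800 := by
  rw [minvec_eq, Set.ncard_image_of_injective _ P3_injective, Mset_ncard]

end Cfsg.Agent.Lib.Lead.J2
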