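import Cfsg.Agent.Lib.Lead.J2.G

set_option autoImplicit false
set_option linter.unusedSimpArgs false
set_option linter.unnecessarySeqFocus false
set_option linter.unreachableTactic false
set_option linter.unusedTactic false
set_option linter.unusedVariables false
set_option linter.constructorNameAsVariable false

/-!
# The reflections of the icosian Leech lattice
-/

namespace Cfsg.Agent.Lib.Lead.J2

open Quaternion

/-! ### the Hermitian product of the model -/

theorem aq_neg_mul (x y : Aq) : -x * y = -(x * y) := neg_mul x y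
theorem aq_mul_neg (x y : Aq) : x * -y = -(x * y) := mul_neg x y
theorem aq_star_add (x y : Aq) : star (x + y) = star x + star y := star_add x y
theorem aq_star_sub (x y : Aq) : star (x - y) = star x - star y := star_sub x y
theorem aq_star_mul (x y : Aq) : star (x * y) = star y * star x := star_mul x y
theorem aq_star_star (x : Aq) : star (star x) = x := star_star x

theorem qipm_add_left (v w r : V3) : qipm (v + w) r = qipm v r + qipm w r := by
  unfold qipm
  rw [add_x, add_y, add_z, add_mul, add_mul, add_mul]
  abel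

theorem qipm_neg_left (v r : V3) : qipm (-v) r = -qipm v r := by
  unfold qipm
  rw [neg_x, neg_y, neg_z, aq_neg_mul, aq_neg_mul, aq_neg_mul]
  abel

theorem qipm_sub_left (v w r : V3) : qipm (v - w) r = qipm v r - qipm w r := by
  rw [V3_sub_eq, qipm_add_left, qipm_neg_left, sub_eq_add_neg]

theorem qipm_lsm_left (a : Aq) (v r : V3) : qipm (lsm a v) r = a * qipm v r := by
  unfold qipm
  rw [lsm_x, lsm_y, lsm_z, mul_add, mul_add, mul_assoc, mul_assoc, mul_assoc]

theorem qipm_lsm_right (a : Aq) (v r : V3) : qipm v (lsm a r) = qipm v r * star a := by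
  unfold qipm
  rw [lsm_x, lsm_y, lsm_z, star_mul, star_mul, star_mul, add_mul, add_mul, mul_assoc, mul_assoc,
    mul_assoc]

theorem qipm_star (v r : V3) : star (qipm v r) = qipm r v := by
  unfold qipm
  rw [aq_star_add, aq_star_add, aq_star_mul, aq_star_mul, aq_star_mul, aq_star_star,
    aq_star_star, aq_star_star]

theorem inI_qipm {v r : V3} (hv : inLam v = true) (hr : inLam r = true) :
    inI (qipm v r) = true := by
  rw [inLam_iff] at hv hr
  unfold qipm
  exact inI_add (inI_add (inI_mul hv.1 (inI_star hr.1)) (inI_mul hv.2.1 (inI_star hr.2.1)))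
    (inI_mul hv.2.2.1 (inI_star hr.2.2.1))

theorem hm_star : hm * star hm = 2 := by decide +kernel
theorem star_hm : star hm * hm = 2 := by decide +kernel

theorem halfA_mul_two (a b : Aq) : halfA * (a * 2 * b) = a * b := by
  rw [← mul_assoc, ← mul_assoc, halfA_comm a, mul_assoc a, halfA_two, mul_one]

theorem evn_h {x y : Aq} (hx : inIh x = true) (hy : inIh y = true) :
    inI (halfA * (x * star y)) = true := by
  obtain ⟨a, ha, rfl, -⟩ := exists_of_inIh hx
  obtain ⟨b, hb, rfl, -⟩ := exists_of_inIh hy
  have e : a * hm * star (b * hm) = a * 2 * star b := by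
    rw [star_mul, mul_assoc a, ← mul_assoc hm, hm_star, ← mul_assoc]
  rw [e, halfA_mul_two]
  exact inI_mul ha (inI_star hb)

theorem exists_of_inIhb {x : Aq} (hx : inIhb x = true) : ∃ y, inI y = true ∧ x = y * star hm := by
  refine ⟨x * hbinv, hx, ?_⟩
  rw [mul_assoc, hbinv_shm, mul_one]

theorem evn_hb {x y : Aq} (hx : inIhb x = true) (hy : inIhb y = true) :
    inI (halfA * (x * star y)) = true := by
  obtain ⟨a, ha, rfl⟩ := exists_of_inIhb hx
  obtain ⟨b, hb, rfl⟩ := exists_of_inIhb hy
  have e : a * star hm * star (b * star hm) = a * 2 * star b := by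
    rw [star_mul, star_star, mul_assoc a, ← mul_assoc (star hm), star_hm, ← mul_assoc]
  rw [e, halfA_mul_two]
  exact inI_mul ha (inI_star hb)

theorem three_qipm (v r : V3) : qipm v r + qipm v r + qipm v r =
    (v.x + v.y + v.z) * star (r.x + r.y + r.z) + (v.x - v.y) * star (r.x - r.y) +
      (v.y - v.z) * star (r.y - r.z) + (v.x - v.z) * star (r.x - r.z) := by
  unfold qipm
  simp only [aq_star_add, aq_star_sub, mul_add, add_mul, mul_sub, sub_mul]
  abel

theorem halfA_add_self (s : Aq) : halfA * (s + s) = s := by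
  rw [← two_mul, ← mul_assoc, halfA_two, one_mul]

/-- the Hermitian products of lattice vectors are twice icosians -/
theorem even_qipm {v r : V3} (hv : inLam v = true) (hr : inLam r = true) :
    inI (halfA * qipm v r) = true := by
  have hs := inI_qipm hv hr
  rw [inLam_iff] at hv hr
  obtain ⟨h1, h2, h3, h4, h5, h6⟩ := hv
  obtain ⟨k1, k2, k3, k4, k5, k6⟩ := hr
  have h7 : inIh (v.x - v.z) = true := by
    have := inIh_add h4 h5
    rwa [sub_add_sub_cancel] at this
  have k7 : inIh (r.x - r.z) = true := by
    have := inIh_add k4 k5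
    rwa [sub_add_sub_cancel] at this
  have e1 : halfA * qipm v r = halfA * (qipm v r + qipm v r + qipm v r) - qipm v r := by
    rw [mul_add, halfA_add_self]
    abel
  rw [e1, three_qipm, mul_add, mul_add, mul_add]
  exact inI_sub (inI_add (inI_add (inI_add (evn_hb h6 k6) (evn_h h4 k4)) (evn_h h5 k5))
    (evn_h h7 k7)) hs

theorem inLam_qreflm {r v : V3} (hr : inLam r = true) (hv : inLam v = true) :
    inLam (qreflm r v) = true := by
  unfold qreflm
  exact inLam_sub hv (inLam_lsm (even_qipm hv hr) hr)

theorem halfA_four : halfA * 4 = 2 := by decide +kernel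

theorem qipm_qreflm_self {r : V3} (hr : nV r = 4) (v : V3) :
    qipm (qreflm r v) r = -qipm v r := by
  unfold qreflm
  rw [qipm_sub_left, qipm_lsm_left, qipm_self, hr]
  have e : ((4 : Kq) : Aq) = 4 := by decide +kernel
  rw [e, halfA_comm, mul_assoc, halfA_four, mul_two]
  abel

theorem qreflm_x (r v : V3) : (qreflm r v).x = v.x - halfA * qipm v r * r.x := rfl
theorem qreflm_y (r v : V3) : (qreflm r v).y = v.y - halfA * qipm v r * r.y := rfl
theorem qreflm_z (r v : V3) : (qreflm r v).z = v.z - halfA * qipm v r * r.z := rfl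

/-- the reflections of the model are involutions -/
theorem qreflm_invol {r : V3} (hr : nV r = 4) (v : V3) : qreflm r (qreflm r v) = v := by
  refine V3.ext ?_ ?_ ?_
  · rw [qreflm_x, qipm_qreflm_self hr, qreflm_x, aq_mul_neg, aq_neg_mul]
    abel
  · rw [qreflm_y, qipm_qreflm_self hr, qreflm_y, aq_mul_neg, aq_neg_mul]
    abel
  · rw [qreflm_z, qipm_qreflm_self hr, qreflm_z, aq_mul_neg, aq_neg_mul]
    abel

/-- reflections in unit multiples coincide -/
theorem qreflm_lsm {u : Aq} (hu : nK u = 1) (r v : V3) : qreflm (lsm u r) v = qreflm r v := by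
  unfold qreflm
  rw [qipm_lsm_right, lsm_lsm, mul_assoc, mul_assoc, unit_star_mul hu, mul_one]

theorem qreflm_self {r : V3} (hr : nV r = 4) : qreflm r r = -r := by
  have e : ((4 : Kq) : Aq) = 4 := by decide +kernel
  refine V3.ext ?_ ?_ ?_
  · rw [qreflm_x, qipm_self, hr, e, halfA_four, neg_x, two_mul]
    abel
  · rw [qreflm_y, qipm_self, hr, e, halfA_four, neg_y, two_mul]
    abel
  · rw [qreflm_z, qipm_self, hr, e, halfA_four, neg_z, two_mul]
    abel

end Cfsg.Agent.Lib.Lead.J2
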