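import Cfsg.Agent.Lib.Lead.J2.H

set_option autoImplicit false
set_option linter.unusedSimpArgs false
set_option linter.unnecessarySeqFocus false
set_option linter.unreachableTactic false
set_option linter.unusedTactic false
set_option linter.unusedVariables false
set_option linter.constructorNameAsVariable false

/-!
# The reflections as permutations of the lattice, and their number
-/

namespace Cfsg.Agent.Lib.Lead.J2

open Quaternion

theorem exists_model (x : Spor.icoLeech) :
    ∃ v, inLam v = true ∧ P3 v = (x : Fin 3 → ℍ[ℝ]) := (mem_icoLeech_iff _).1 x.2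

theorem P3_mem {v : V3} (hv : inLam v = true) : P3 v ∈ Spor.icoLeech :=
  (mem_icoLeech_iff _).2 ⟨v, hv, rfl⟩

theorem qrefl_mem {r : V3} (hr : r ∈ Mset) (x : Spor.icoLeech) :
    Spor.qrefl (P3 r) x ∈ Spor.icoLeech := by
  obtain ⟨v, hv, hx⟩ := exists_model x
  rw [← hx, qrefl_P3]
  exact P3_mem (inLam_qreflm hr.1 hv)

theorem qrefl_invol {r : V3} (hr : r ∈ Mset) (x : Spor.icoLeech) :
    Spor.qrefl (P3 r) (Spor.qrefl (P3 r) x) = x := by
  obtain ⟨v, hv, hx⟩ := exists_model x
  rw [← hx, qrefl_P3, qrefl_P3, qreflm_invol hr.2]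

/-- the reflection in a minimal vector, as a permutation of the lattice -/
noncomputable def reflE (r : V3) (hr : r ∈ Mset) : Equiv.Perm Spor.icoLeech where
  toFun x := ⟨Spor.qrefl (P3 r) x, qrefl_mem hr x⟩
  invFun x := ⟨Spor.qrefl (P3 r) x, qrefl_mem hr x⟩
  left_inv x := Subtype.ext (qrefl_invol hr x)
  right_inv x := Subtype.ext (qrefl_invol hr x)

open Classical in
/-- the reflection in a vector of the model (the identity unless the vector is minimal) -/
noncomputable def reflF (r : V3) : Equiv.Perm Spor.icoLeech :=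
  if hr : r ∈ Mset then reflE r hr else 1

theorem reflF_apply {r : V3} (hr : r ∈ Mset) (x : Spor.icoLeech) :
    ((reflF r x : Spor.icoLeech) : Fin 3 → ℍ[ℝ]) = Spor.qrefl (P3 r) x := by
  unfold reflF
  rw [dif_pos hr]
  rfl

theorem isRefl_reflF {r : V3} (hr : r ∈ Mset) : Spor.IsIcoReflection (reflF r) :=
  ⟨⟨P3 r, P3_mem hr.1⟩, (qip_self_P3 r).2 hr.2, fun x => reflF_apply hr x⟩

theorem reflF_lsm {u : Aq} (hu : u ∈ S1) {r : V3} (hr : r ∈ Mset) :
    reflF (lsm u r) = reflF r := by
  apply Equiv.ext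
  intro x
  apply Subtype.ext
  rw [reflF_apply (lsm_mem_Mset hu hr), reflF_apply hr]
  obtain ⟨v, hv, hx⟩ := exists_model x
  rw [← hx, qrefl_P3, qrefl_P3, qreflm_lsm (S1_unit hu).2]

theorem isRefl_iff (f : Equiv.Perm Spor.icoLeech) :
    Spor.IsIcoReflection f ↔ ∃ w ∈ WlX, f = reflF w := by
  constructor
  · rintro ⟨r, h1, h2⟩
    obtain ⟨v, hv, hr⟩ := exists_model r
    have hvM : v ∈ Mset := by
      refine ⟨hv, ?_⟩
      rw [← hr] at h1
      exact (qip_self_P3 v).1 h1
    obtain ⟨u, hu, w, hw, rfl⟩ := exists_rep' hvM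
    refine ⟨w, hw, ?_⟩
    rw [← reflF_lsm hu (WlX_sub_Mset hw)]
    apply Equiv.ext
    intro x
    apply Subtype.ext
    rw [h2 x, reflF_apply hvM, hr]
  · rintro ⟨w, hw, rfl⟩
    exact isRefl_reflF (WlX_sub_Mset hw)

theorem nV_lsm' (d : Aq) (v : V3) : nV (lsm d v) = nK d * nV v := by
  unfold nV
  rw [lsm_x, lsm_y, lsm_z, nK_mul, nK_mul, nK_mul, mul_add, mul_add]

theorem quarterK_four : (4 : Kq) * ⟨1 / 4, 0⟩ = 1 := by decide +kernel

theorem P3_neg' (v : V3) : P3 (-v) = -P3 v := P3_neg v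

theorem reflF_injOn {w w' : V3} (hw : w ∈ WlX) (hw' : w' ∈ WlX) (h : reflF w = reflF w') :
    w = w' := by
  have hwM := WlX_sub_Mset hw
  have hwM' := WlX_sub_Mset hw'
  have h1 := congrArg (fun f : Equiv.Perm Spor.icoLeech =>
    ((f ⟨P3 w, P3_mem hwM.1⟩ : Spor.icoLeech) : Fin 3 → ℍ[ℝ])) h
  beta_reduce at h1
  rw [reflF_apply hwM, reflF_apply hwM', qrefl_P3, qrefl_P3, qreflm_self hwM.2] at h1
  have h2 := P3_injective h1
  -- `-w = w - lsm c w'`
  set c := halfA * qipm w w' with hc
  have e : w = lsm (halfA * c) w' := by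
    have hx := congrArg V3.x h2
    have hy := congrArg V3.y h2
    have hz := congrArg V3.z h2
    rw [neg_x, qreflm_x, ← hc] at hx
    rw [neg_y, qreflm_y, ← hc] at hy
    rw [neg_z, qreflm_z, ← hc] at hz
    refine V3.ext ?_ ?_ ?_
    · rw [lsm_x, mul_assoc]
      have : c * w'.x = w.x + w.x := by
        have := hx
        calc c * w'.x = w.x - (w.x - c * w'.x) := by abel
          _ = w.x + w.x := by rw [← this]; abel
      rw [this, halfA_add_self]
    · rw [lsm_y, mul_assoc]
      have : c * w'.y = w.y + w.y := by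
        calc c * w'.y = w.y - (w.y - c * w'.y) := by abel
          _ = w.y + w.y := by rw [← hy]; abel
      rw [this, halfA_add_self]
    · rw [lsm_z, mul_assoc]
      have : c * w'.z = w.z + w.z := by
        calc c * w'.z = w.z - (w.z - c * w'.z) := by abel
          _ = w.z + w.z := by rw [← hz]; abel
      rw [this, halfA_add_self]
  have hn : nK (halfA * c) = 1 := by
    have h3 := congrArg nV e
    rw [nV_lsm', hwM.2, hwM'.2] at h3
    have h4 := congrArg (fun k : Kq => k * ⟨1 / 4, 0⟩) h3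
    beta_reduce at h4
    rw [mul_assoc, quarterK_four, mul_one] at h4
    exact h4.symm
  have h5 := congrArg piv e
  rw [piv_lsm hn, WlX_piv w hw, WlX_piv w' hw', mul_one] at h5
  rw [← h5, lsm_one] at e
  exact e

theorem refl_ncard : {f : Equiv.Perm Spor.icoLeech | Spor.IsIcoReflection f}.ncard = 315 := by
  have e : {f : Equiv.Perm Spor.icoLeech | Spor.IsIcoReflection f} =
      reflF '' ((WlX.toFinset : Finset V3) : Set V3) := by
    ext f
    rw [Set.mem_ofPred_eq, isRefl_iff]
    constructor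
    · rintro ⟨w, hw, rfl⟩
      exact ⟨w, by rw [Finset.mem_coe]; exact List.mem_toFinset.2 hw, rfl⟩
    · rintro ⟨w, hw, rfl⟩
      rw [Finset.mem_coe] at hw
      exact ⟨w, List.mem_toFinset.1 hw, rfl⟩
  rw [e, Set.InjOn.ncard_image, Set.ncard_coe_finset, List.toFinset_card_of_nodup WlX_nodup,
    WlX_length]
  intro w hw w' hw' h
  rw [Finset.mem_coe] at hw hw'
  exact reflF_injOn (List.mem_toFinset.1 hw) (List.mem_toFinset.1 hw') h

end Cfsg.Agent.Lib.Lead.J2
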