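import Cfsg.Agent.Lib.Lead.J2.H2

set_option autoImplicit false
set_option linter.unusedSimpArgs false
set_option linter.unnecessarySeqFocus false
set_option linter.unreachableTactic false
set_option linter.unusedTactic false
set_option linter.unusedVariables false
set_option linter.constructorNameAsVariable false

/-!
# Linearity of the reflections of the model, and the conjugation formula
-/

namespace Cfsg.Agent.Lib.Lead.J2

open Quaternion

instance : SMul ℕ V3 := ⟨fun n v => ⟨n • v.x, n • v.y, n • v.z⟩⟩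
instance : SMul ℤ V3 := ⟨fun n v => ⟨n • v.x, n • v.y, n • v.z⟩⟩

/-- the coordinates of a vector of the model -/
def toTriple (v : V3) : Aq × Aq × Aq := (v.x, v.y, v.z)

theorem toTriple_injective : Function.Injective toTriple := by
  intro v w h
  have h1 : v.x = w.x := congrArg (fun p : Aq × Aq × Aq => p.1) h
  have h2 : v.y = w.y := congrArg (fun p : Aq × Aq × Aq => p.2.1) h
  have h3 : v.z = w.z := congrArg (fun p : Aq × Aq × Aq => p.2.2) h
  exact V3.ext h1 h2 h3

instance : AddCommGroup V3 :=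
  Function.Injective.addCommGroup toTriple toTriple_injective rfl (fun _ _ => rfl) (fun _ => rfl)
    (fun _ _ => rfl) (fun _ _ => rfl) (fun _ _ => rfl)

theorem lsm_add_arg (a : Aq) (v w : V3) : lsm a (v + w) = lsm a v + lsm a w := by
  refine V3.ext ?_ ?_ ?_
  · show a * (v.x + w.x) = a * v.x + a * w.x
    rw [mul_add]
  · show a * (v.y + w.y) = a * v.y + a * w.y
    rw [mul_add]
  · show a * (v.z + w.z) = a * v.z + a * w.z
    rw [mul_add]

theorem lsm_sub_arg (a : Aq) (v w : V3) : lsm a (v - w) = lsm a v - lsm a w := by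
  refine V3.ext ?_ ?_ ?_
  · show a * (v.x - w.x) = a * v.x - a * w.x
    rw [mul_sub]
  · show a * (v.y - w.y) = a * v.y - a * w.y
    rw [mul_sub]
  · show a * (v.z - w.z) = a * v.z - a * w.z
    rw [mul_sub]

theorem lsm_add_scalar (a b : Aq) (v : V3) : lsm (a + b) v = lsm a v + lsm b v := by
  refine V3.ext ?_ ?_ ?_
  · show (a + b) * v.x = a * v.x + b * v.x
    rw [add_mul]
  · show (a + b) * v.y = a * v.y + b * v.y
    rw [add_mul]
  · show (a + b) * v.z = a * v.z + b * v.z
    rw [add_mul]

theorem lsm_sub_scalar (a b : Aq) (v : V3) : lsm (a - b) v = lsm a v - lsm b v := by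
  refine V3.ext ?_ ?_ ?_
  · show (a - b) * v.x = a * v.x - b * v.x
    rw [sub_mul]
  · show (a - b) * v.y = a * v.y - b * v.y
    rw [sub_mul]
  · show (a - b) * v.z = a * v.z - b * v.z
    rw [sub_mul]

theorem qipm_add_right (v r s : V3) : qipm v (r + s) = qipm v r + qipm v s := by
  rw [← qipm_star, qipm_add_left, aq_star_add, qipm_star, qipm_star]

theorem qipm_sub_right (v r s : V3) : qipm v (r - s) = qipm v r - qipm v s := by
  rw [← qipm_star, qipm_sub_left, aq_star_sub, qipm_star, qipm_star]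

theorem qreflm_def (r v : V3) : qreflm r v = v - lsm (halfA * qipm v r) r := rfl

theorem qreflm_add (s v w : V3) : qreflm s (v + w) = qreflm s v + qreflm s w := by
  rw [qreflm_def, qreflm_def, qreflm_def, qipm_add_left, mul_add, lsm_add_scalar]
  abel

theorem qreflm_sub (s v w : V3) : qreflm s (v - w) = qreflm s v - qreflm s w := by
  rw [qreflm_def, qreflm_def, qreflm_def, qipm_sub_left, mul_sub, lsm_sub_scalar]
  abel

theorem qreflm_lsm_arg (s : V3) (a : Aq) (v : V3) : qreflm s (lsm a v) = lsm a (qreflm s v) := by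
  rw [qreflm_def, qreflm_def, qipm_lsm_left, lsm_sub_arg, lsm_lsm, ← mul_assoc, ← mul_assoc,
    halfA_comm a]

theorem star_halfA : star halfA = halfA := by decide +kernel

theorem coe4 : ((4 : Kq) : Aq) = 4 := by decide +kernel

theorem halfA_half_four (x y : Aq) : halfA * x * 4 * (halfA * y) = x * y := by
  have e : (4 : Aq) = 2 * 2 := by decide +kernel
  rw [halfA_comm x, mul_assoc x, mul_assoc x, e, ← mul_assoc halfA, halfA_comm 2,
    mul_assoc 2, halfA_two, mul_one, ← mul_assoc 2, ← halfA_comm 2, halfA_two, one_mul]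

/-- the reflections of the model preserve the Hermitian product -/
theorem qipm_qreflm {s : V3} (hs : nV s = 4) (v w : V3) :
    qipm (qreflm s v) (qreflm s w) = qipm v w := by
  rw [qreflm_def, qreflm_def, qipm_sub_left, qipm_sub_right, qipm_sub_right, qipm_lsm_left,
    qipm_lsm_left, qipm_lsm_right, qipm_lsm_right, qipm_self, hs, coe4, aq_star_mul, star_halfA,
    qipm_star]
  have e1 : qipm v s * (qipm s w * halfA) = halfA * qipm v s * qipm s w := by
    rw [← halfA_comm, ← mul_assoc, ← halfA_comm (qipm v s)]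
  have e2 : halfA * qipm v s * (4 * (qipm s w * halfA)) = qipm v s * qipm s w := by
    rw [← halfA_comm (qipm s w), ← mul_assoc]
    exact halfA_half_four _ _
  have e3 : halfA * qipm v s * qipm s w + halfA * qipm v s * qipm s w = qipm v s * qipm s w := by
    rw [← add_mul, ← mul_add, halfA_add_self]
  rw [e1, e2]
  rw [← e3]
  abel

theorem nV_qreflm {s : V3} (hs : nV s = 4) (v : V3) : nV (qreflm s v) = nV v := by
  have h := qipm_qreflm hs v v
  rw [qipm_self, qipm_self] at h
  exact Quaternion.coe_injective h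

theorem qreflm_mem_Mset {s v : V3} (hs : s ∈ Mset) (hv : v ∈ Mset) : qreflm s v ∈ Mset :=
  ⟨inLam_qreflm hs.1 hv.1, by rw [nV_qreflm hs.2]; exact hv.2⟩

/-- conjugating a reflection by a reflection -/
theorem qreflm_conj {s : V3} (hs : nV s = 4) (r v : V3) :
    qreflm s (qreflm r (qreflm s v)) = qreflm (qreflm s r) v := by
  have h1 : qipm (qreflm s v) r = qipm v (qreflm s r) := by
    have := qipm_qreflm hs (qreflm s v) r
    rw [qreflm_invol hs] at this
    exact this.symm
  rw [qreflm_def r, qreflm_sub, qreflm_lsm_arg, qreflm_invol hs, h1, qreflm_def (qreflm s r)]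

/-! ### the real world -/

theorem reflF_mul_self {s : V3} (hs : s ∈ Mset) : reflF s * reflF s = 1 := by
  apply Equiv.ext
  intro x
  apply Subtype.ext
  rw [Equiv.Perm.mul_apply, reflF_apply hs, reflF_apply hs, Equiv.Perm.one_apply]
  exact qrefl_invol hs x

theorem reflF_inv {s : V3} (hs : s ∈ Mset) : (reflF s)⁻¹ = reflF s :=
  inv_eq_of_mul_eq_one_right (reflF_mul_self hs)

theorem reflF_P3 {s : V3} (hs : s ∈ Mset) {v : V3} (hv : inLam v = true) :
    reflF s ⟨P3 v, P3_mem hv⟩ = ⟨P3 (qreflm s v), P3_mem (inLam_qreflm hs.1 hv)⟩ := by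
  apply Subtype.ext
  rw [reflF_apply hs, qrefl_P3]

theorem reflF_conj {s r : V3} (hs : s ∈ Mset) (hr : r ∈ Mset) :
    reflF s * reflF r * (reflF s)⁻¹ = reflF (qreflm s r) := by
  rw [reflF_inv hs]
  apply Equiv.ext
  intro x
  obtain ⟨v, hv, hx⟩ := exists_model x
  have ex : x = ⟨P3 v, P3_mem hv⟩ := Subtype.ext hx.symm
  rw [ex, Equiv.Perm.mul_apply, Equiv.Perm.mul_apply, reflF_P3 hs hv,
    reflF_P3 hr (inLam_qreflm hs.1 hv), reflF_P3 hs (inLam_qreflm hr.1 (inLam_qreflm hs.1 hv)),
    reflF_P3 (qreflm_mem_Mset hs hr) hv]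
  apply Subtype.ext
  show P3 _ = P3 _
  rw [qreflm_conj hs.2]

theorem reflF_mem_twoJ2 {s : V3} (hs : s ∈ Mset) : reflF s ∈ Spor.twoJ2 :=
  Subgroup.subset_closure (isRefl_reflF hs)

end Cfsg.Agent.Lib.Lead.J2
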