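import Cfsg.Agent.Lib.Lead.J2.I

set_option autoImplicit false
set_option linter.unusedSimpArgs false
set_option linter.unnecessarySeqFocus false
set_option linter.unreachableTactic false
set_option linter.unusedTactic false
set_option linter.unusedVariables false
set_option linter.constructorNameAsVariable false

/-!
# The reflections are conjugate
-/

namespace Cfsg.Agent.Lib.Lead.J2

open Quaternion

/-- the representative of the line of a minimal vector -/
def nrm (v : V3) : V3 := lsm (star (piv v)) v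

theorem nrm_spec {v : V3} (hv : v ∈ Mset) : nrm v ∈ WlX ∧ piv v ∈ S1 ∧ v = lsm (piv v) (nrm v) := by
  obtain ⟨u, hu, w, hw, rfl⟩ := exists_rep' hv
  have hu1 := (S1_unit hu).2
  have e1 : piv (lsm u w) = u := by rw [piv_lsm hu1, WlX_piv w hw, mul_one]
  have e2 : nrm (lsm u w) = w := by
    unfold nrm
    rw [e1, lsm_lsm, unit_star_mul hu1, lsm_one]
  rw [e1, e2]
  exact ⟨hw, hu, rfl⟩

theorem reflF_nrm {v : V3} (hv : v ∈ Mset) : reflF (nrm v) = reflF v := by
  obtain ⟨h1, h2, h3⟩ := nrm_spec hv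
  conv_rhs => rw [h3]
  rw [reflF_lsm h2 (WlX_sub_Mset h1)]

/-- the first representative -/
def w0 : V3 := ⟨2, 0, 0⟩

/-- the reflection in `w` is conjugate to the reflection in `w0` -/
def ConjTo (w : V3) : Prop := ∃ g ∈ Spor.twoJ2, g * reflF w0 * g⁻¹ = reflF w

theorem ConjTo_step {s w : V3} (hs : s ∈ Mset) (hw : w ∈ Mset) (h : ConjTo w) :
    ConjTo (nrm (qreflm s w)) := by
  obtain ⟨g, hg, hgw⟩ := h
  refine ⟨reflF s * g, Subgroup.mul_mem _ (reflF_mem_twoJ2 hs) hg, ?_⟩
  rw [reflF_nrm (qreflm_mem_Mset hs hw), ← reflF_conj hs hw, ← hgw]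
  group

/-- the `i`-th representative -/
def Wi (i : ℕ) : V3 := WlX.getD i 0

theorem Wi_mem {i : ℕ} (hi : i < 315) : Wi i ∈ WlX := by
  unfold Wi
  have hi' : i < WlX.length := by rw [WlX_length]; exact hi
  rw [List.getD_eq_getElem _ _ hi']
  exact List.getElem_mem hi'

theorem exists_Wi {w : V3} (hw : w ∈ WlX) : ∃ i, i < 315 ∧ Wi i = w := by
  obtain ⟨i, hi, rfl⟩ := List.mem_iff_getElem.1 hw
  refine ⟨i, by rw [← WlX_length]; exact hi, ?_⟩
  unfold Wi
  rw [List.getD_eq_getElem _ _ hi]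

/-- checking a certificate of connectedness -/
def certOK : List (ℕ × ℕ × ℕ) → List ℕ → Bool
  | [], _ => true
  | e :: rest, reached => decide (e.2.1 ∈ reached) && decide (e.2.2 < 315) && decide (e.1 < 315) &&
      decide (nrm (qreflm (Wi e.2.2) (Wi e.2.1)) = Wi e.1) && certOK rest (e.1 :: reached)

theorem certOK_sound : ∀ (cert : List (ℕ × ℕ × ℕ)) (reached : List ℕ), certOK cert reached = true →
    (∀ i ∈ reached, i < 315 ∧ ConjTo (Wi i)) → ∀ e ∈ cert, ConjTo (Wi e.1) := by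
  intro cert
  induction cert with
  | nil => intro _ _ _ e he; cases he
  | cons a rest ih =>
    intro reached h hr e he
    rw [certOK, Bool.and_eq_true, Bool.and_eq_true, Bool.and_eq_true, Bool.and_eq_true,
      decide_eq_true_eq, decide_eq_true_eq, decide_eq_true_eq, decide_eq_true_eq] at h
    obtain ⟨⟨⟨⟨h1, h2⟩, h3⟩, h4⟩, h5⟩ := h
    have ha : ConjTo (Wi a.1) := by
      obtain ⟨hp, hpc⟩ := hr _ h1
      have := ConjTo_step (WlX_sub_Mset (Wi_mem h2)) (WlX_sub_Mset (Wi_mem hp)) hpc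
      rwa [h4] at this
    rcases List.mem_cons.1 he with rfl | he'
    · exact ha
    · refine ih (a.1 :: reached) h5 ?_ e he'
      intro i hi
      rcases List.mem_cons.1 hi with rfl | hi'
      · exact ⟨h3, ha⟩
      · exact hr i hi'

/-- a certificate of connectedness: (line, parent, reflector) -/
def cert315 : List (ℕ × ℕ × ℕ) := [
  (2, 0, 11), (1, 0, 19), (90, 0, 27), (89, 0, 28), (88, 0, 29), (87, 0, 30),
  (86, 0, 31), (85, 0, 32), (84, 0, 33), (83, 0, 34), (82, 0, 35), (81, 0, 36),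
  (80, 0, 37), (79, 0, 38), (78, 0, 39), (77, 0, 40), (76, 0, 41), (75, 0, 42),
  (74, 0, 43), (73, 0, 44), (72, 0, 45), (71, 0, 46), (70, 0, 47), (69, 0, 48),
  (68, 0, 49), (67, 0, 50), (66, 0, 51), (65, 0, 52), (64, 0, 53), (63, 0, 54),
  (62, 0, 55), (61, 0, 56), (60, 0, 57), (59, 0, 58), (58, 0, 59), (57, 0, 60),
  (56, 0, 61), (55, 0, 62), (54, 0, 63), (53, 0, 64), (52, 0, 65), (51, 0, 66),
  (50, 0, 67), (49, 0, 68), (48, 0, 69), (47, 0, 70), (46, 0, 71), (45, 0, 72),
  (44, 0, 73), (43, 0, 74), (42, 0, 75), (41, 0, 76), (40, 0, 77), (39, 0, 78),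
  (38, 0, 79), (37, 0, 80), (36, 0, 81), (35, 0, 82), (34, 0, 83), (33, 0, 84),
  (32, 0, 85), (31, 0, 86), (30, 0, 87), (29, 0, 88), (28, 0, 89), (27, 0, 90),
  (154, 0, 91), (153, 0, 92), (152, 0, 93), (151, 0, 94), (150, 0, 95), (149, 0, 96),
  (148, 0, 97), (147, 0, 98), (146, 0, 99), (145, 0, 100), (144, 0, 101), (143, 0, 102),
  (142, 0, 103), (141, 0, 104), (140, 0, 105), (139, 0, 106), (138, 0, 107), (137, 0, 108),
  (136, 0, 109), (135, 0, 110), (134, 0, 111), (133, 0, 112), (132, 0, 113), (131, 0, 114),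
  (130, 0, 115), (129, 0, 116), (128, 0, 117), (127, 0, 118), (126, 0, 119), (125, 0, 120),
  (124, 0, 121), (123, 0, 122), (122, 0, 123), (121, 0, 124), (120, 0, 125), (119, 0, 126),
  (118, 0, 127), (117, 0, 128), (116, 0, 129), (115, 0, 130), (114, 0, 131), (113, 0, 132),
  (112, 0, 133), (111, 0, 134), (110, 0, 135), (109, 0, 136), (108, 0, 137), (107, 0, 138),
  (106, 0, 139), (105, 0, 140), (104, 0, 141), (103, 0, 142), (102, 0, 143), (101, 0, 144),
  (100, 0, 145), (99, 0, 146), (98, 0, 147), (97, 0, 148), (96, 0, 149), (95, 0, 150),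
  (94, 0, 151), (93, 0, 152), (92, 0, 153), (91, 0, 154), (4, 0, 155), (9, 0, 156),
  (6, 0, 157), (7, 0, 158), (5, 0, 159), (8, 0, 160), (3, 0, 161), (10, 0, 162),
  (234, 0, 219), (233, 0, 220), (232, 0, 221), (231, 0, 222), (230, 0, 223), (229, 0, 224),
  (228, 0, 225), (227, 0, 226), (226, 0, 227), (225, 0, 228), (224, 0, 229), (223, 0, 230),
  (222, 0, 231), (221, 0, 232), (220, 0, 233), (219, 0, 234), (250, 0, 235), (249, 0, 236),
  (248, 0, 237), (247, 0, 238), (246, 0, 239), (245, 0, 240), (244, 0, 241), (243, 0, 242),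
  (242, 0, 243), (241, 0, 244), (240, 0, 245), (239, 0, 246), (238, 0, 247), (237, 0, 248),
  (236, 0, 249), (235, 0, 250), (310, 0, 251), (303, 0, 252), (312, 0, 253), (301, 0, 254),
  (308, 0, 255), (305, 0, 256), (300, 0, 257), (313, 0, 258), (314, 0, 259), (299, 0, 260),
  (306, 0, 261), (307, 0, 262), (302, 0, 263), (311, 0, 264), (304, 0, 265), (309, 0, 266),
  (290, 0, 267), (291, 0, 268), (296, 0, 269), (285, 0, 270), (298, 0, 271), (283, 0, 272),
  (294, 0, 273), (287, 0, 274), (288, 0, 275), (293, 0, 276), (284, 0, 277), (297, 0, 278),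
  (286, 0, 279), (295, 0, 280), (292, 0, 281), (289, 0, 282), (278, 0, 283), (271, 0, 284),
  (280, 0, 285), (269, 0, 286), (276, 0, 287), (273, 0, 288), (268, 0, 289), (281, 0, 290),
  (282, 0, 291), (267, 0, 292), (274, 0, 293), (275, 0, 294), (270, 0, 295), (279, 0, 296),
  (272, 0, 297), (277, 0, 298), (258, 0, 299), (259, 0, 300), (264, 0, 301), (253, 0, 302),
  (266, 0, 303), (251, 0, 304), (262, 0, 305), (255, 0, 306), (256, 0, 307), (261, 0, 308),
  (252, 0, 309), (265, 0, 310), (254, 0, 311), (263, 0, 312), (260, 0, 313), (257, 0, 314),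
  (19, 2, 91), (20, 2, 99), (22, 2, 107), (21, 2, 115), (24, 2, 123), (23, 2, 131),
  (25, 2, 139), (26, 2, 147), (156, 2, 155), (155, 2, 156), (158, 2, 157), (157, 2, 158),
  (160, 2, 159), (159, 2, 160), (162, 2, 161), (161, 2, 162), (164, 2, 163), (163, 2, 164),
  (166, 2, 165), (165, 2, 166), (168, 2, 167), (167, 2, 168), (170, 2, 169), (169, 2, 170),
  (172, 2, 171), (171, 2, 172), (174, 2, 173), (173, 2, 174), (176, 2, 175), (175, 2, 176),
  (178, 2, 177), (177, 2, 178), (180, 2, 179), (179, 2, 180), (182, 2, 181), (181, 2, 182),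
  (184, 2, 183), (183, 2, 184), (186, 2, 185), (185, 2, 186), (188, 2, 187), (187, 2, 188),
  (190, 2, 189), (189, 2, 190), (192, 2, 191), (191, 2, 192), (194, 2, 193), (193, 2, 194),
  (196, 2, 195), (195, 2, 196), (198, 2, 197), (197, 2, 198), (200, 2, 199), (199, 2, 200),
  (202, 2, 201), (201, 2, 202), (204, 2, 203), (203, 2, 204), (206, 2, 205), (205, 2, 206),
  (208, 2, 207), (207, 2, 208), (210, 2, 209), (209, 2, 210), (212, 2, 211), (211, 2, 212),
  (214, 2, 213), (213, 2, 214), (216, 2, 215), (215, 2, 216), (218, 2, 217), (217, 2, 218),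
  (12, 1, 27), (17, 1, 28), (14, 1, 29), (15, 1, 30), (13, 1, 31), (16, 1, 32),
  (11, 1, 33), (18, 1, 34)
]

end Cfsg.Agent.Lib.Lead.J2
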