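import Cfsg.Agent.Lib.Lead.J2.I2

set_option autoImplicit false
set_option linter.unusedSimpArgs false
set_option linter.unnecessarySeqFocus false
set_option linter.unreachableTactic false
set_option linter.unusedTactic false
set_option linter.unusedVariables false
set_option linter.constructorNameAsVariable false

/-!
# A certificate of connectedness with four reflectors: the steps
-/

namespace Cfsg.Agent.Lib.Lead.J2

/-- a step of a certificate: the line `e.1` is the image of the line `e.2.1` under the reflection
in the line `e.2.2` -/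
def stepOK (e : ℕ × ℕ × ℕ) : Prop := nrm (qreflm (Wi e.2.2) (Wi e.2.1)) = Wi e.1

instance : DecidablePred stepOK := fun e => by
  unfold stepOK
  infer_instance

/-- a certificate of connectedness with four reflectors: (line, parent, reflector) -/
def certG : List (ℕ × ℕ × ℕ) := [
  (90, 0, 27), (145, 0, 100), (10, 0, 200), (27, 90, 0), (306, 90, 100), (217, 90, 200),
  (100, 145, 0), (308, 145, 27), (281, 145, 200), (161, 10, 27), (304, 10, 100), (115, 27, 100),
  (198, 27, 200), (246, 306, 27), (256, 306, 200), (155, 217, 0), (9, 217, 27), (138, 217, 100),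
  (239, 100, 27), (299, 100, 200), (130, 308, 100), (294, 308, 200), (267, 281, 0), (81, 281, 27),
  (258, 281, 100), (211, 161, 0), (290, 161, 100), (310, 304, 0), (296, 304, 27), (40, 115, 27),
  (16, 115, 200), (176, 198, 0), (200, 198, 27), (63, 198, 100), (255, 246, 100), (49, 246, 200),
  (262, 256, 0), (181, 256, 27), (273, 256, 100), (182, 155, 100), (99, 155, 200), (59, 9, 100),
  (107, 138, 0), (165, 138, 27), (136, 239, 200), (313, 299, 0), (178, 299, 27), (261, 130, 27),
  (21, 130, 200), (288, 294, 0), (129, 294, 27), (147, 294, 100), (119, 267, 27), (37, 267, 200),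
  (36, 81, 0), (248, 81, 100), (260, 258, 0), (274, 258, 27), (122, 211, 100), (4, 211, 200),
  (292, 290, 0), (230, 290, 27), (272, 290, 200), (214, 310, 27), (286, 296, 0), (199, 296, 100),
  (314, 296, 200), (77, 40, 0), (232, 40, 200), (13, 16, 0), (38, 16, 27), (71, 176, 27),
  (116, 176, 100), (146, 176, 200), (174, 200, 0), (54, 63, 0), (114, 255, 200), (68, 49, 0),
  (103, 49, 27), (157, 49, 100), (30, 262, 27), (170, 262, 100), (276, 262, 200), (191, 181, 0),
  (84, 181, 100), (275, 273, 0), (7, 273, 27), (192, 182, 0), (78, 182, 27), (65, 182, 200),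
  (3, 99, 27), (106, 99, 100), (58, 59, 0), (118, 59, 27), (265, 59, 200), (73, 107, 27),
  (307, 107, 200), (207, 165, 0), (67, 165, 200), (109, 136, 0), (295, 136, 100), (250, 313, 27),
  (133, 313, 100), (80, 313, 200), (196, 178, 0), (24, 21, 0), (139, 21, 100), (187, 288, 100),
  (98, 147, 0), (45, 147, 27), (126, 119, 0), (305, 119, 100), (215, 119, 200), (79, 37, 27),
  (251, 37, 100), (259, 36, 100), (41, 36, 200), (237, 248, 0), (213, 248, 27), (234, 248, 200),
  (278, 260, 200), (228, 274, 100), (123, 122, 0), (280, 122, 27), (85, 122, 200), (96, 4, 27),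
  (184, 4, 100), (140, 292, 27), (223, 230, 0), (238, 230, 100), (66, 272, 27), (160, 214, 0),
  (14, 214, 100), (35, 214, 200), (110, 286, 100), (268, 286, 200), (173, 199, 0), (33, 199, 27),
  (2, 199, 200), (300, 314, 0), (48, 314, 100), (241, 77, 200), (221, 232, 0), (74, 13, 100),
  (86, 13, 200), (46, 71, 0), (121, 71, 100), (148, 116, 200), (112, 174, 100), (143, 54, 27),
  (167, 54, 200), (131, 114, 0), (94, 114, 27), (52, 114, 100), (179, 68, 27), (92, 68, 100),
  (142, 103, 0), (102, 103, 100), (82, 157, 27), (87, 30, 0), (5, 30, 100), (204, 170, 0),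
  (42, 170, 27), (124, 170, 200), (39, 276, 100), (132, 191, 100), (56, 191, 200), (91, 84, 27),
  (156, 84, 200), (29, 275, 200), (177, 7, 100), (269, 192, 27), (225, 78, 100), (172, 78, 200),
  (205, 65, 27), (83, 65, 100), (283, 3, 100), (162, 106, 27), (254, 58, 27), (127, 118, 0),
  (289, 118, 100), (44, 73, 0), (6, 73, 100), (291, 73, 200), (164, 307, 27), (50, 67, 0),
  (150, 67, 100), (70, 109, 100), (285, 295, 0), (235, 250, 0), (168, 250, 200), (185, 133, 27),
  (43, 196, 100), (134, 196, 200), (31, 24, 200), (20, 139, 27), (101, 98, 27), (89, 98, 200),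
  (72, 45, 0), (64, 45, 100), (18, 45, 200), (212, 126, 100), (88, 305, 200), (253, 215, 27),
  (153, 215, 100), (242, 79, 100), (257, 259, 0), (120, 259, 200), (76, 41, 0), (151, 41, 27),
  (249, 41, 100), (222, 237, 27), (159, 213, 0), (8, 213, 100), (219, 234, 0), (117, 278, 27),
  (97, 228, 27), (270, 280, 0), (220, 280, 100), (298, 280, 200), (32, 85, 0), (266, 85, 27),
  (149, 96, 0), (287, 96, 100), (190, 184, 0), (284, 184, 27), (105, 140, 0), (1, 140, 100),
  (263, 140, 200), (208, 223, 100), (247, 238, 0), (113, 238, 27), (23, 238, 200), (51, 66, 0),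
  (15, 14, 0), (62, 14, 27), (224, 35, 100), (135, 110, 0), (226, 110, 200), (282, 268, 0),
  (60, 268, 27), (154, 173, 27), (197, 33, 200), (28, 2, 27), (111, 300, 100), (69, 48, 0),
  (244, 241, 0), (311, 241, 27), (163, 241, 100), (108, 221, 27), (243, 221, 100), (95, 74, 27),
  (271, 74, 200), (201, 86, 100), (19, 143, 100), (34, 131, 100), (293, 131, 200), (216, 94, 100),
  (193, 179, 0), (137, 179, 200), (203, 92, 200), (26, 142, 100), (169, 82, 200), (75, 204, 200),
  (279, 39, 27), (309, 132, 27), (61, 56, 0), (312, 56, 100), (218, 91, 200), (195, 177, 0),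
  (206, 269, 100), (297, 225, 27), (202, 172, 0), (104, 83, 27), (264, 254, 0), (55, 127, 200),
  (125, 289, 200), (210, 291, 27), (277, 164, 100), (47, 70, 0), (11, 70, 27), (144, 70, 200),
  (22, 134, 27), (25, 20, 0), (53, 64, 0), (186, 64, 27), (227, 64, 200), (183, 18, 100),
  (301, 153, 27), (189, 242, 27), (171, 242, 200), (236, 249, 0), (231, 222, 0), (209, 8, 200),
  (128, 117, 0), (194, 117, 100), (252, 270, 200), (233, 220, 0), (12, 298, 100), (302, 190, 27),
  (303, 284, 100), (166, 208, 0), (240, 208, 200), (229, 224, 0), (158, 282, 27), (57, 60, 0),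
  (175, 154, 200), (180, 197, 100), (17, 69, 200), (93, 311, 100), (245, 163, 27), (152, 19, 27),
  (141, 104, 0), (188, 186, 0)
]

set_option maxRecDepth 1000000 in
set_option maxHeartbeats 0 in
theorem certG_step0 : ∀ e ∈ (certG.drop 0).take 35, stepOK e := by decide +kernel

set_option maxRecDepth 1000000 in
set_option maxHeartbeats 0 in
theorem certG_step1 : ∀ e ∈ (certG.drop 35).take 35, stepOK e := by decide +kernel

set_option maxRecDepth 1000000 in
set_option maxHeartbeats 0 in
theorem certG_step2 : ∀ e ∈ (certG.drop 70).take 35, stepOK e := by decide +kernel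

set_option maxRecDepth 1000000 in
set_option maxHeartbeats 0 in
theorem certG_step3 : ∀ e ∈ (certG.drop 105).take 35, stepOK e := by decide +kernel

set_option maxRecDepth 1000000 in
set_option maxHeartbeats 0 in
theorem certG_step4 : ∀ e ∈ (certG.drop 140).take 35, stepOK e := by decide +kernel

set_option maxRecDepth 1000000 in
set_option maxHeartbeats 0 in
theorem certG_step5 : ∀ e ∈ (certG.drop 175).take 35, stepOK e := by decide +kernel

set_option maxRecDepth 1000000 in
set_option maxHeartbeats 0 in
theorem certG_step6 : ∀ e ∈ (certG.drop 210).take 35, stepOK e := by decide +kernel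

set_option maxRecDepth 1000000 in
set_option maxHeartbeats 0 in
theorem certG_step7 : ∀ e ∈ (certG.drop 245).take 35, stepOK e := by decide +kernel

set_option maxRecDepth 1000000 in
set_option maxHeartbeats 0 in
theorem certG_step8 : ∀ e ∈ certG.drop 280, stepOK e := by decide +kernel

theorem certG_steps : ∀ e ∈ certG, stepOK e := by
  have h8 := certG_step8
  have h7 : ∀ e ∈ certG.drop 245, stepOK e := by
    apply forall_take_drop stepOK _ 35 certG_step7
    rw [List.drop_drop]
    exact h8
  have h6 : ∀ e ∈ certG.drop 210, stepOK e := by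
    apply forall_take_drop stepOK _ 35 certG_step6
    rw [List.drop_drop]
    exact h7
  have h5 : ∀ e ∈ certG.drop 175, stepOK e := by
    apply forall_take_drop stepOK _ 35 certG_step5
    rw [List.drop_drop]
    exact h6
  have h4 : ∀ e ∈ certG.drop 140, stepOK e := by
    apply forall_take_drop stepOK _ 35 certG_step4
    rw [List.drop_drop]
    exact h5
  have h3 : ∀ e ∈ certG.drop 105, stepOK e := by
    apply forall_take_drop stepOK _ 35 certG_step3
    rw [List.drop_drop]
    exact h4
  have h2 : ∀ e ∈ certG.drop 70, stepOK e := by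
    apply forall_take_drop stepOK _ 35 certG_step2
    rw [List.drop_drop]
    exact h3
  have h1 : ∀ e ∈ certG.drop 35, stepOK e := by
    apply forall_take_drop stepOK _ 35 certG_step1
    rw [List.drop_drop]
    exact h2
  have h0 : ∀ e ∈ certG.drop 0, stepOK e := by
    apply forall_take_drop stepOK _ 35 certG_step0
    rw [List.drop_drop]
    exact h1
  exact h0

end Cfsg.Agent.Lib.Lead.J2
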