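import Cfsg.Agent.Lib.Lead.J2.I2

set_option autoImplicit false
set_option linter.unusedSimpArgs false
set_option linter.unnecessarySeqFocus false
set_option linter.unreachableTactic false
set_option linter.unusedTactic false
set_option linter.unusedVariables false
set_option linter.constructorNameAsVariable false

/-!
# Words in the reflections
-/

namespace Cfsg.Agent.Lib.Lead.J2

open Quaternion

/-- the product of the reflections in the vectors of a list -/
noncomputable def wordF (l : List V3) : Equiv.Perm Spor.icoLeech := (l.map reflF).prod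

/-- the action of a word on the model -/
def wordM (l : List V3) (v : V3) : V3 := l.foldr qreflm v

theorem wordF_nil : wordF [] = 1 := rfl
theorem wordF_cons (s : V3) (l : List V3) : wordF (s :: l) = reflF s * wordF l := by
  unfold wordF
  rw [List.map_cons, List.prod_cons]
theorem wordF_append (l l' : List V3) : wordF (l ++ l') = wordF l * wordF l' := by
  unfold wordF
  rw [List.map_append, List.prod_append]
theorem wordM_nil (v : V3) : wordM [] v = v := rfl
theorem wordM_cons (s : V3) (l : List V3) (v : V3) :
    wordM (s :: l) v = qreflm s (wordM l v) := rfl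

/-- all letters of a word are minimal vectors -/
def InM (l : List V3) : Prop := ∀ s ∈ l, s ∈ Mset

theorem InM_nil : InM [] := fun s hs => by cases hs
theorem InM_cons {s : V3} {l : List V3} (hs : s ∈ Mset) (hl : InM l) : InM (s :: l) := by
  intro t ht
  rcases List.mem_cons.1 ht with rfl | ht
  · exact hs
  · exact hl t ht
theorem InM_head {s : V3} {l : List V3} (h : InM (s :: l)) : s ∈ Mset := h s List.mem_cons_self
theorem InM_tail {s : V3} {l : List V3} (h : InM (s :: l)) : InM l :=
  fun t ht => h t (List.mem_cons_of_mem _ ht)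
theorem InM_append {l l' : List V3} (h : InM l) (h' : InM l') : InM (l ++ l') := by
  intro t ht
  rcases List.mem_append.1 ht with ht | ht
  · exact h t ht
  · exact h' t ht

theorem wordM_add (l : List V3) (v w : V3) : wordM l (v + w) = wordM l v + wordM l w := by
  induction l with
  | nil => rfl
  | cons s l ih => rw [wordM_cons, wordM_cons, wordM_cons, ih, qreflm_add]

theorem wordM_lsm (l : List V3) (a : Aq) (v : V3) : wordM l (lsm a v) = lsm a (wordM l v) := by
  induction l with
  | nil => rfl
  | cons s l ih => rw [wordM_cons, wordM_cons, ih, qreflm_lsm_arg]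

theorem wordM_inLam {l : List V3} (hl : InM l) {v : V3} (hv : inLam v = true) :
    inLam (wordM l v) = true := by
  induction l with
  | nil => exact hv
  | cons s l ih =>
    rw [wordM_cons]
    exact inLam_qreflm (InM_head hl).1 (ih (InM_tail hl))

theorem wordM_mem_Mset {l : List V3} (hl : InM l) {v : V3} (hv : v ∈ Mset) :
    wordM l v ∈ Mset := by
  induction l with
  | nil => exact hv
  | cons s l ih =>
    rw [wordM_cons]
    exact qreflm_mem_Mset (InM_head hl) (ih (InM_tail hl))

theorem wordF_P3 {l : List V3} (hl : InM l) {v : V3} (hv : inLam v = true) :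
    wordF l ⟨P3 v, P3_mem hv⟩ = ⟨P3 (wordM l v), P3_mem (wordM_inLam hl hv)⟩ := by
  induction l with
  | nil => rfl
  | cons s l ih =>
    rw [wordF_cons, Equiv.Perm.mul_apply, ih (InM_tail hl),
      reflF_P3 (InM_head hl) (wordM_inLam (InM_tail hl) hv)]
    rfl

theorem wordF_mem {l : List V3} (hl : InM l) : wordF l ∈ Spor.twoJ2 := by
  induction l with
  | nil => exact Subgroup.one_mem _
  | cons s l ih =>
    rw [wordF_cons]
    exact Subgroup.mul_mem _ (reflF_mem_twoJ2 (InM_head hl)) (ih (InM_tail hl))

theorem wordF_conj {l : List V3} (hl : InM l) {r : V3} (hr : r ∈ Mset) :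
    wordF l * reflF r * (wordF l)⁻¹ = reflF (wordM l r) := by
  induction l with
  | nil =>
    rw [wordF_nil, wordM_nil]
    group
  | cons s l ih =>
    rw [wordF_cons, wordM_cons, ← reflF_conj (InM_head hl) (wordM_mem_Mset (InM_tail hl) hr),
      ← ih (InM_tail hl)]
    group

/-- every element of the reflection group is a word -/
theorem exists_word {g : Equiv.Perm Spor.icoLeech} (hg : g ∈ Spor.twoJ2) :
    ∃ l, InM l ∧ g = wordF l := by
  unfold Spor.twoJ2 at hg
  induction hg using Subgroup.closure_induction'' with
  | one => exact ⟨[], InM_nil, rfl⟩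
  | mem x hx =>
    obtain ⟨w, hw, rfl⟩ := (isRefl_iff x).1 hx
    refine ⟨[w], InM_cons (WlX_sub_Mset hw) InM_nil, ?_⟩
    rw [wordF_cons, wordF_nil, mul_one]
  | inv_mem x hx =>
    obtain ⟨w, hw, rfl⟩ := (isRefl_iff x).1 hx
    refine ⟨[w], InM_cons (WlX_sub_Mset hw) InM_nil, ?_⟩
    rw [wordF_cons, wordF_nil, mul_one, reflF_inv (WlX_sub_Mset hw)]
  | mul x y _ _ hx hy =>
    obtain ⟨l, hl, rfl⟩ := hx
    obtain ⟨l', hl', rfl⟩ := hy
    exact ⟨l ++ l', InM_append hl hl', (wordF_append l l').symm⟩

end Cfsg.Agent.Lib.Lead.J2
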