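import Cfsg.Agent.Lib.Lead.J2.K1

set_option autoImplicit false
set_option linter.unusedSimpArgs false
set_option linter.unnecessarySeqFocus false
set_option linter.unreachableTactic false
set_option linter.unusedTactic false
set_option linter.unusedVariables false
set_option linter.constructorNameAsVariable false

/-!
# The centre of the reflection group
-/

namespace Cfsg.Agent.Lib.Lead.J2

open Quaternion

/-- the coordinate vectors -/
def r1 : V3 := ⟨2, 0, 0⟩
def r2 : V3 := ⟨0, 2, 0⟩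
def r3 : V3 := ⟨0, 0, 2⟩

theorem r1_mem : r1 ∈ Mset := WlX_sub_Mset (by rw [← Wl_eq, mem_Wl]; exact Or.inl WA_mem0)
theorem r2_mem : r2 ∈ Mset := WlX_sub_Mset (by rw [← Wl_eq, mem_Wl]; exact Or.inl WA_mem1)
theorem r3_mem : r3 ∈ Mset := WlX_sub_Mset (by rw [← Wl_eq, mem_Wl]; exact Or.inl WA_mem2)
theorem r1_memW : r1 ∈ WlX := by rw [← Wl_eq, mem_Wl]; exact Or.inl WA_mem0
theorem r2_memW : r2 ∈ WlX := by rw [← Wl_eq, mem_Wl]; exact Or.inl WA_mem1
theorem r3_memW : r3 ∈ WlX := by rw [← Wl_eq, mem_Wl]; exact Or.inl WA_mem2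

theorem star_two : star (2 : Aq) = 2 := by decide +kernel
theorem star_zeroA : star (0 : Aq) = 0 := by decide +kernel

theorem halfA_mul_two' (x : Aq) : halfA * (x * 2) = x := by
  rw [← mul_assoc, halfA_comm, mul_assoc, halfA_two, mul_one]

theorem qreflm_r1 (v : V3) : qreflm r1 v = ⟨-v.x, v.y, v.z⟩ := by
  have e : qipm v r1 = v.x * 2 := by
    show v.x * star 2 + v.y * star 0 + v.z * star 0 = v.x * 2
    rw [star_two, star_zeroA, mul_zero, mul_zero, add_zero, add_zero]
  refine V3.ext ?_ ?_ ?_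
  · rw [qreflm_x, e, halfA_mul_two']
    show v.x - v.x * 2 = -v.x
    rw [mul_two]
    abel
  · rw [qreflm_y, e, halfA_mul_two']
    show v.y - v.x * 0 = v.y
    rw [mul_zero, sub_zero]
  · rw [qreflm_z, e, halfA_mul_two']
    show v.z - v.x * 0 = v.z
    rw [mul_zero, sub_zero]

theorem qreflm_r2 (v : V3) : qreflm r2 v = ⟨v.x, -v.y, v.z⟩ := by
  have e : qipm v r2 = v.y * 2 := by
    show v.x * star 0 + v.y * star 2 + v.z * star 0 = v.y * 2
    rw [star_two, star_zeroA, mul_zero, mul_zero, add_zero, zero_add]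
  refine V3.ext ?_ ?_ ?_
  · rw [qreflm_x, e, halfA_mul_two']
    show v.x - v.y * 0 = v.x
    rw [mul_zero, sub_zero]
  · rw [qreflm_y, e, halfA_mul_two']
    show v.y - v.y * 2 = -v.y
    rw [mul_two]
    abel
  · rw [qreflm_z, e, halfA_mul_two']
    show v.z - v.y * 0 = v.z
    rw [mul_zero, sub_zero]

theorem qreflm_r3 (v : V3) : qreflm r3 v = ⟨v.x, v.y, -v.z⟩ := by
  have e : qipm v r3 = v.z * 2 := by
    show v.x * star 0 + v.y * star 0 + v.z * star 2 = v.z * 2
    rw [star_two, star_zeroA, mul_zero, mul_zero, zero_add, zero_add]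
  refine V3.ext ?_ ?_ ?_
  · rw [qreflm_x, e, halfA_mul_two']
    show v.x - v.z * 0 = v.x
    rw [mul_zero, sub_zero]
  · rw [qreflm_y, e, halfA_mul_two']
    show v.y - v.z * 0 = v.y
    rw [mul_zero, sub_zero]
  · rw [qreflm_z, e, halfA_mul_two']
    show v.z - v.z * 2 = -v.z
    rw [mul_two]
    abel

/-- the word of the negation -/
def negW : List V3 := [r1, r2, r3]

theorem negW_InM : InM negW := InM_cons r1_mem (InM_cons r2_mem (InM_cons r3_mem InM_nil))

theorem wordM_negW (v : V3) : wordM negW v = -v := by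
  show qreflm r1 (qreflm r2 (qreflm r3 v)) = -v
  rw [qreflm_r3, qreflm_r2, qreflm_r1]
  rfl

/-- negation, as a permutation of the lattice -/
noncomputable def negE : Equiv.Perm Spor.icoLeech := wordF negW

theorem negE_mem : negE ∈ Spor.twoJ2 := wordF_mem negW_InM

theorem negE_apply (x : Spor.icoLeech) :
    ((negE x : Spor.icoLeech) : Fin 3 → ℍ[ℝ]) = -(x : Fin 3 → ℍ[ℝ]) := by
  obtain ⟨v, hv, hx⟩ := exists_model x
  have ex : x = ⟨P3 v, P3_mem hv⟩ := Subtype.ext hx.symm
  rw [ex]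
  unfold negE
  rw [wordF_P3 negW_InM hv]
  show P3 (wordM negW v) = -P3 v
  rw [wordM_negW, P3_neg]

theorem aq_neg_one_mul (x : Aq) : -1 * x = -x := neg_one_mul x
theorem aq_mul_neg_one (x : Aq) : x * -1 = -x := mul_neg_one x

theorem neg_eq_lsm (v : V3) : -v = lsm (-1) v := by
  refine V3.ext ?_ ?_ ?_
  · show -v.x = -1 * v.x
    rw [aq_neg_one_mul]
  · show -v.y = -1 * v.y
    rw [aq_neg_one_mul]
  · show -v.z = -1 * v.z
    rw [aq_neg_one_mul]

theorem wordM_neg (l : List V3) (v : V3) : wordM l (-v) = -wordM l v := by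
  rw [neg_eq_lsm, wordM_lsm, ← neg_eq_lsm]

theorem word_apply {l : List V3} (hl : InM l) (x : Spor.icoLeech) {v : V3}
    (hv : inLam v = true) (hx : P3 v = (x : Fin 3 → ℍ[ℝ])) :
    ((wordF l x : Spor.icoLeech) : Fin 3 → ℍ[ℝ]) = P3 (wordM l v) := by
  have ex : x = ⟨P3 v, P3_mem hv⟩ := Subtype.ext hx.symm
  rw [ex, wordF_P3 hl hv]

theorem negE_comm {g : Equiv.Perm Spor.icoLeech} (hg : g ∈ Spor.twoJ2) : g * negE = negE * g := by
  obtain ⟨l, hl, rfl⟩ := exists_word hg
  apply Equiv.ext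
  intro x
  apply Subtype.ext
  obtain ⟨v, hv, hx⟩ := exists_model x
  rw [Equiv.Perm.mul_apply, Equiv.Perm.mul_apply, negE_apply, word_apply hl x hv hx]
  have h1 : P3 (-v) = ((negE x : Spor.icoLeech) : Fin 3 → ℍ[ℝ]) := by
    rw [negE_apply, P3_neg, hx]
  rw [word_apply hl (negE x) (inLam_neg hv) h1, wordM_neg, P3_neg]

/-- vectors spanning the same line -/
theorem same_line {v v' : V3} (hv : v ∈ Mset) (hv' : v' ∈ Mset) (h : reflF v = reflF v') :
    v = lsm (piv v * star (piv v')) v' := by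
  obtain ⟨h1, h2, h3⟩ := nrm_spec hv
  obtain ⟨k1, k2, k3⟩ := nrm_spec hv'
  have e : nrm v = nrm v' := by
    apply reflF_injOn h1 k1
    rw [reflF_nrm hv, reflF_nrm hv', h]
  conv_lhs => rw [h3, e]
  unfold nrm
  rw [lsm_lsm]

theorem decomp (v : V3) : v = lsm (halfA * v.x) r1 + (lsm (halfA * v.y) r2 + lsm (halfA * v.z) r3) := by
  refine V3.ext ?_ ?_ ?_
  · show v.x = halfA * v.x * 2 + (halfA * v.y * 0 + halfA * v.z * 0)
    rw [mul_zero, mul_zero, add_zero, add_zero, mul_assoc, halfA_mul_two']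
  · show v.y = halfA * v.x * 0 + (halfA * v.y * 2 + halfA * v.z * 0)
    rw [mul_zero, mul_zero, add_zero, zero_add, mul_assoc, halfA_mul_two']
  · show v.z = halfA * v.x * 0 + (halfA * v.y * 0 + halfA * v.z * 2)
    rw [mul_zero, mul_zero, zero_add, zero_add, mul_assoc, halfA_mul_two']

theorem two_commA (x : Aq) : (2 : Aq) * x = x * 2 := by rw [two_mul, mul_two]

theorem word_formula (l : List V3) {u1 u2 u3 : Aq} (h1 : wordM l r1 = lsm u1 r1)
    (h2 : wordM l r2 = lsm u2 r2) (h3 : wordM l r3 = lsm u3 r3) (v : V3) :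
    wordM l v = ⟨v.x * u1, v.y * u2, v.z * u3⟩ := by
  conv_lhs => rw [decomp v]
  rw [wordM_add, wordM_add, wordM_lsm, wordM_lsm, wordM_lsm, h1, h2, h3, lsm_lsm, lsm_lsm, lsm_lsm]
  refine V3.ext ?_ ?_ ?_
  · show halfA * v.x * u1 * 2 + (halfA * v.y * u2 * 0 + halfA * v.z * u3 * 0) = v.x * u1
    rw [mul_zero, mul_zero, add_zero, add_zero, mul_assoc halfA, mul_assoc halfA, halfA_mul_two']
  · show halfA * v.x * u1 * 0 + (halfA * v.y * u2 * 2 + halfA * v.z * u3 * 0) = v.y * u2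
    rw [mul_zero, mul_zero, add_zero, zero_add, mul_assoc halfA, mul_assoc halfA, halfA_mul_two']
  · show halfA * v.x * u1 * 0 + (halfA * v.y * u2 * 0 + halfA * v.z * u3 * 2) = v.z * u3
    rw [mul_zero, mul_zero, zero_add, zero_add, mul_assoc halfA, mul_assoc halfA, halfA_mul_two']

theorem W147_spec : (Wi 147).x = 1 ∧ (Wi 147).y = 1 := by decide +kernel
theorem W34_spec : (Wi 34).x = 1 ∧ (Wi 34).z = 1 := by decide +kernel

set_option maxRecDepth 100000 in
theorem comm_W34 : ∀ u ∈ S1, (Wi 34).y * u = u * (Wi 34).y → u = 1 ∨ u = -1 := by decide +kernel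

theorem piv_WlX {w : V3} (hw : w ∈ WlX) : piv w = 1 := WlX_piv w hw

/-- an element of the reflection group that commutes with all reflections is `±1` -/
theorem central_cases {g : Equiv.Perm Spor.icoLeech} (hg : g ∈ Spor.twoJ2)
    (hc : ∀ r ∈ Mset, g * reflF r = reflF r * g) : g = 1 ∨ g = negE := by
  obtain ⟨l, hl, rfl⟩ := exists_word hg
  have key : ∀ w ∈ WlX, ∃ u ∈ S1, wordM l w = lsm u w := by
    intro w hw
    have hwM := WlX_sub_Mset hw
    have hTM := wordM_mem_Mset hl hwM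
    have h1 : reflF (wordM l w) = reflF w := by
      rw [← wordF_conj hl hwM, hc w hwM]
      group
    have h2 := same_line hTM hwM h1
    rw [piv_WlX hw, star_one, mul_one] at h2
    exact ⟨piv (wordM l w), (nrm_spec hTM).2.1, h2⟩
  obtain ⟨u1, hu1, e1⟩ := key r1 r1_memW
  obtain ⟨u2, hu2, e2⟩ := key r2 r2_memW
  obtain ⟨u3, hu3, e3⟩ := key r3 r3_memW
  have form := word_formula l e1 e2 e3
  obtain ⟨d, hd, ed⟩ := key (Wi 147) (Wi_mem (by norm_num))
  obtain ⟨c, hc', ec⟩ := key (Wi 34) (Wi_mem (by norm_num))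
  rw [form] at ed ec
  have d1 := congrArg V3.x ed
  have d2 := congrArg V3.y ed
  have c1 := congrArg V3.x ec
  have c2 := congrArg V3.y ec
  have c3 := congrArg V3.z ec
  rw [lsm_x] at d1 c1
  rw [lsm_y] at d2 c2
  rw [lsm_z] at c3
  simp only [W147_spec.1, W147_spec.2, one_mul, mul_one] at d1 d2
  simp only [W34_spec.1, W34_spec.2, one_mul, mul_one] at c1 c3
  -- `u1 = d = u2`, `u1 = c = u3`, and `y * u2 = c * y`
  have hu21 : u2 = u1 := by rw [d2, ← d1]
  have hu31 : u3 = u1 := by rw [c3, ← c1]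
  rw [hu21, ← c1] at c2
  have hform : ∀ v, wordM l v = ⟨v.x * u1, v.y * u1, v.z * u1⟩ := by
    intro v
    rw [form, hu21, hu31]
  rcases comm_W34 u1 hu1 c2 with h | h
  · left
    apply Equiv.ext
    intro x
    apply Subtype.ext
    obtain ⟨v, hv, hx⟩ := exists_model x
    rw [word_apply hl x hv hx, hform, h, mul_one, mul_one, mul_one, Equiv.Perm.one_apply, ← hx]
  · right
    apply Equiv.ext
    intro x
    apply Subtype.ext
    obtain ⟨v, hv, hx⟩ := exists_model x
    rw [word_apply hl x hv hx, hform, h, negE_apply, ← hx, ← P3_neg]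
    congr 1
    refine V3.ext ?_ ?_ ?_
    · show v.x * -1 = -v.x
      rw [aq_mul_neg_one]
    · show v.y * -1 = -v.y
      rw [aq_mul_neg_one]
    · show v.z * -1 = -v.z
      rw [aq_mul_neg_one]

end Cfsg.Agent.Lib.Lead.J2
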