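import Cfsg.Agent.Lib.Lead.J2.K2

set_option autoImplicit false
set_option linter.unusedSimpArgs false
set_option linter.unnecessarySeqFocus false
set_option linter.unreachableTactic false
set_option linter.unusedTactic false
set_option linter.unusedVariables false
set_option linter.constructorNameAsVariable false

/-!
# The centre of the reflection group has order 2
-/

namespace Cfsg.Agent.Lib.Lead.J2

open Quaternion

/-- negation, as an element of the reflection group -/
noncomputable def negT : ↥Spor.twoJ2 := ⟨negE, negE_mem⟩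

theorem negT_mem_center : negT ∈ Subgroup.center ↥Spor.twoJ2 := by
  rw [Subgroup.mem_center_iff]
  intro h
  apply Subtype.ext
  exact negE_comm h.2

theorem r1_ne_neg : r1 ≠ -r1 := by decide +kernel

theorem negE_ne_one : negE ≠ 1 := by
  intro h
  have h1 := negE_apply ⟨P3 r1, P3_mem r1_mem.1⟩
  rw [h, Equiv.Perm.one_apply] at h1
  have h2 : P3 r1 = P3 (-r1) := by rw [P3_neg]; exact h1
  exact r1_ne_neg (P3_injective h2)

theorem negT_ne_one : negT ≠ 1 := by
  intro h
  exact negE_ne_one (congrArg Subtype.val h)

theorem mem_center_iff' (z : ↥Spor.twoJ2) :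
    z ∈ Subgroup.center ↥Spor.twoJ2 ↔ z = 1 ∨ z = negT := by
  constructor
  · intro hz
    rw [Subgroup.mem_center_iff] at hz
    have hc : ∀ r ∈ Mset, (z : Equiv.Perm Spor.icoLeech) * reflF r = reflF r * z := by
      intro r hr
      have := hz ⟨reflF r, reflF_mem_twoJ2 hr⟩
      exact (congrArg Subtype.val this).symm
    rcases central_cases z.2 hc with h | h
    · left
      exact Subtype.ext h
    · right
      exact Subtype.ext h
  · rintro (rfl | rfl)
    · exact Subgroup.one_mem _
    · exact negT_mem_center

theorem center_card : Nat.card (Subgroup.center ↥Spor.twoJ2) = 2 := by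
  rw [Nat.card_eq_two_iff]
  refine ⟨⟨1, Subgroup.one_mem _⟩, ⟨negT, negT_mem_center⟩, ?_, ?_⟩
  · intro h
    exact negT_ne_one (congrArg Subtype.val h).symm
  · ext z
    simp only [Set.mem_insert_iff, Set.mem_singleton_iff, Set.mem_univ, iff_true]
    rcases (mem_center_iff' z.1).1 z.2 with h | h
    · left
      exact Subtype.ext h
    · right
      exact Subtype.ext h

theorem center_neg : ∃ z ∈ Subgroup.center ↥Spor.twoJ2, ∀ x : Spor.icoLeech,
    (((z : Equiv.Perm Spor.icoLeech) x : Spor.icoLeech) : Fin 3 → ℍ[ℝ]) = -(x : Fin 3 → ℍ[ℝ]) :=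
  ⟨negT, negT_mem_center, fun x => negE_apply x⟩

end Cfsg.Agent.Lib.Lead.J2
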