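import Cfsg.Agent.Lib.Lead.J2.K6

set_option autoImplicit false
set_option linter.unusedSimpArgs false
set_option linter.unnecessarySeqFocus false
set_option linter.unreachableTactic false
set_option linter.unusedTactic false
set_option linter.unusedVariables false
set_option linter.constructorNameAsVariable false

/-!
# The isomorphism of the Hall–Janko group with `P315`, explicitly
-/

namespace Cfsg.Agent.Lib.Lead.J2

open Quaternion

/-- the isomorphism of the Hall–Janko group with the permutation group `P315` -/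
noncomputable def J2Iso : Spor.J2 ≃* P315 :=
  ((QuotientGroup.quotientMulEquivOfEq psi_ker.symm).trans
    (QuotientGroup.quotientKerEquivRange psi)).trans (MulEquiv.subgroupCongr psi_range)

theorem J2Iso_mk (g : ↥Spor.twoJ2) :
    ((J2Iso (QuotientGroup.mk g : Spor.J2) : P315) : Equiv.Perm (Fin 315)) = psi g := rfl

theorem J2Iso_gen (k : Fin 4) :
    ((J2Iso (QuotientGroup.mk (genT k) : Spor.J2) : P315) : Equiv.Perm (Fin 315)) = piG k := by
  rw [J2Iso_mk, psi_gen]

/-- the images of the reflections are the conjugates of the first generator -/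
theorem J2Iso_refl (f : Equiv.Perm Spor.icoLeech) (hf : Spor.IsIcoReflection f)
    (hfm : f ∈ Spor.twoJ2) : ∃ c : P315,
    ((J2Iso (QuotientGroup.mk ⟨f, hfm⟩ : Spor.J2) : P315) : Equiv.Perm (Fin 315)) =
      (c : Equiv.Perm (Fin 315)) * piG 0 * (c : Equiv.Perm (Fin 315))⁻¹ := by
  obtain ⟨w, hw, rfl⟩ := (isRefl_iff f).1 hf
  obtain ⟨g, hg, h⟩ := ConjToH_all hw
  rw [← twoJ2_eq] at hg
  have e0 : reflF w0 = genF 0 := by
    show reflF w0 = reflF (Wi 0)
    rw [Wi_zero]
  have e1 : (⟨reflF w, hfm⟩ : ↥Spor.twoJ2) = ⟨g, hg⟩ * genT 0 * (⟨g, hg⟩ : ↥Spor.twoJ2)⁻¹ := by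
    apply Subtype.ext
    show reflF w = g * genF 0 * g⁻¹
    rw [← e0, h]
  refine ⟨J2Iso (QuotientGroup.mk ⟨g, hg⟩ : Spor.J2), ?_⟩
  rw [e1, QuotientGroup.mk_mul, QuotientGroup.mk_mul, QuotientGroup.mk_inv, map_mul, map_mul,
    map_inv]
  show (_ : Equiv.Perm (Fin 315)) * ((J2Iso (QuotientGroup.mk (genT 0) : Spor.J2) : P315) :
    Equiv.Perm (Fin 315)) * _ = _
  rw [J2Iso_gen]
  rfl

end Cfsg.Agent.Lib.Lead.J2
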